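import Mathlib
import Cfsg.Agent.H218.Glob
import Cfsg.Agent.S0058
import Cfsg.Agent.EvenType.StrongP

/-!
# Offenders in groups with a strongly `p`-embedded subgroup: `|A| ≤ |M : C_M(A)|` and `|A| ≤ |[M, A]|`

`G` finite, `X < G` strongly `p`-embedded (elementwise: `q ∈ X` a nontrivial `p`-element, `g ∉ X` ⇒ `g q g⁻¹ ∉ X`),
`M` a finite `G`-module of exponent `p` such that nontrivial `p`-elements act nontrivially, `A ≤ X` elementary abelian.
-/

set_option autoImplicit false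
set_option linter.unusedSectionVars false
set_option linter.unusedVariables false

namespace Cfsg.Agent.H218.Fus

open Cfsg.Agent.H218.Count Cfsg.Agent.H218.CountQ Cfsg.Agent.H218.Glob

section Repl

variable {G M : Type*} [Group G] [Finite G] [AddCommGroup M] [Finite M] [DistribMulAction G M]

/-- the elements of `A` fixing `W` pointwise -/
def fa (A : Subgroup G) (W : AddSubgroup M) : Subgroup G where
  carrier := {a | a ∈ A ∧ ∀ w ∈ W, a • w = w}
  one_mem' := ⟨one_mem _, fun w _ => one_smul _ w⟩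
  mul_mem' := by
    rintro a b ⟨ha, ha'⟩ ⟨hb, hb'⟩
    refine ⟨mul_mem ha hb, fun w hw => ?_⟩
    rw [mul_smul, hb' w hw, ha' w hw]
  inv_mem' := by
    rintro a ⟨ha, ha'⟩
    refine ⟨inv_mem ha, fun w hw => ?_⟩
    rw [inv_smul_eq_iff, ha' w hw]

theorem mem_fa {A : Subgroup G} {W : AddSubgroup M} {a : G} : a ∈ fa A W ↔ a ∈ A ∧ ∀ w ∈ W, a • w = w := Iff.rfl

theorem fa_le (A : Subgroup G) (W : AddSubgroup M) : fa A W ≤ A := fun _ h => h.1

/-- the measure `|C_A(W)| |W|` -/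
noncomputable def ms (A : Subgroup G) (W : AddSubgroup M) : ℕ := Nat.card (fa A W) * Nat.card W

theorem add_card_le {B₁ B₂ B₃ : AddSubgroup M} (h₁ : B₁ ≤ B₃) (h₂ : B₂ ≤ B₃) :
    Nat.card B₁ * Nat.card B₂ ≤ Nat.card (B₁ ⊓ B₂ : AddSubgroup M) * Nat.card B₃ := by
  have e1 : Nat.card (B₁ ⊓ B₂ : AddSubgroup M) * B₂.relIndex B₁ = Nat.card B₁ := by
    have h := AddSubgroup.relIndex_mul_relIndex (⊥ : AddSubgroup M) (B₁ ⊓ B₂) B₁ bot_le inf_le_left
    rw [AddSubgroup.relIndex_bot_left, AddSubgroup.relIndex_bot_left, AddSubgroup.inf_relIndex_left] at h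
    exact h
  have e2 : Nat.card B₂ * B₂.relIndex B₃ = Nat.card B₃ := by
    have h := AddSubgroup.relIndex_mul_relIndex (⊥ : AddSubgroup M) B₂ B₃ bot_le h₂
    rw [AddSubgroup.relIndex_bot_left, AddSubgroup.relIndex_bot_left] at h
    exact h
  have e3 : B₂.relIndex B₁ ≤ B₂.relIndex B₃ := by
    refine AddSubgroup.relIndex_le_of_le_right h₁ ?_
    intro h0
    rw [h0, mul_zero] at e2
    exact (Nat.card_pos (α := B₃)).ne e2
  calc Nat.card B₁ * Nat.card B₂ = Nat.card (B₁ ⊓ B₂ : AddSubgroup M) * (Nat.card B₂ * B₂.relIndex B₁) := by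
        rw [← e1]; ring
    _ ≤ Nat.card (B₁ ⊓ B₂ : AddSubgroup M) * (Nat.card B₂ * B₂.relIndex B₃) := by gcongr
    _ = _ := by rw [e2]

theorem mul_card_le {B₁ B₂ B₃ : Subgroup G} (h₁ : B₁ ≤ B₃) (h₂ : B₂ ≤ B₃) :
    Nat.card B₁ * Nat.card B₂ ≤ Nat.card (B₁ ⊓ B₂ : Subgroup G) * Nat.card B₃ := by
  have e1 : Nat.card (B₁ ⊓ B₂ : Subgroup G) * B₂.relIndex B₁ = Nat.card B₁ := by
    have h := Subgroup.relIndex_mul_relIndex (⊥ : Subgroup G) (B₁ ⊓ B₂) B₁ bot_le inf_le_left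
    rw [Subgroup.relIndex_bot_left, Subgroup.relIndex_bot_left, Subgroup.inf_relIndex_left] at h
    exact h
  have e2 : Nat.card B₂ * B₂.relIndex B₃ = Nat.card B₃ := by
    have h := Subgroup.relIndex_mul_relIndex (⊥ : Subgroup G) B₂ B₃ bot_le h₂
    rw [Subgroup.relIndex_bot_left, Subgroup.relIndex_bot_left] at h
    exact h
  have e3 : B₂.relIndex B₁ ≤ B₂.relIndex B₃ := by
    refine Subgroup.relIndex_le_of_le_right h₁ ?_
    intro h0
    rw [h0, mul_zero] at e2
    exact (Nat.card_pos (α := B₃)).ne e2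
  calc Nat.card B₁ * Nat.card B₂ = Nat.card (B₁ ⊓ B₂ : Subgroup G) * (Nat.card B₂ * B₂.relIndex B₁) := by
        rw [← e1]; ring
    _ ≤ Nat.card (B₁ ⊓ B₂ : Subgroup G) * (Nat.card B₂ * B₂.relIndex B₃) := by gcongr
    _ = _ := by rw [e2]

theorem fa_anti (A : Subgroup G) {W₁ W₂ : AddSubgroup M} (h : W₁ ≤ W₂) : fa A W₂ ≤ fa A W₁ :=
  fun _ ha => ⟨ha.1, fun w hw => ha.2 w (h hw)⟩

theorem fa_sup (A : Subgroup G) (W₁ W₂ : AddSubgroup M) : fa A (W₁ ⊔ W₂) = fa A W₁ ⊓ fa A W₂ := by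
  apply le_antisymm (le_inf (fa_anti A le_sup_left) (fa_anti A le_sup_right))
  rintro a ⟨h1, h2⟩
  refine ⟨h1.1, ?_⟩
  have h3 : W₁ ⊔ W₂ ≤ (del M a).ker := by
    refine sup_le ?_ ?_
    · intro w hw
      rw [AddMonoidHom.mem_ker, del_apply, h1.2 w hw, sub_self]
    · intro w hw
      rw [AddMonoidHom.mem_ker, del_apply, h2.2 w hw, sub_self]
  intro w hw
  have h4 := h3 hw
  rw [AddMonoidHom.mem_ker, del_apply, sub_eq_zero] at h4
  exact h4

theorem ms_mul_le (A : Subgroup G) (W₁ W₂ : AddSubgroup M) :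
    ms A W₁ * ms A W₂ ≤ ms A (W₁ ⊔ W₂) * ms A (W₁ ⊓ W₂) := by
  have h1 := mul_card_le (fa_anti A (inf_le_left : W₁ ⊓ W₂ ≤ W₁)) (fa_anti A (inf_le_right : W₁ ⊓ W₂ ≤ W₂))
  rw [← fa_sup] at h1
  have h2 := add_card_le (le_sup_left : W₁ ≤ W₁ ⊔ W₂) (le_sup_right : W₂ ≤ W₁ ⊔ W₂)
  unfold ms
  calc _ = (Nat.card (fa A W₁) * Nat.card (fa A W₂)) * (Nat.card W₁ * Nat.card W₂) := by ring
    _ ≤ _ := Nat.mul_le_mul h1 h2
    _ = _ := by ring

/-- the elementary commutator -/
def cu (A : Subgroup G) (u : M) : AddSubgroup M := AddSubgroup.closure {x | ∃ a ∈ A, x = a • u - u}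

theorem le_ms {A : Subgroup G} (hA : ∀ a ∈ A, ∀ b ∈ A, a * b = b * a) (u : M) :
    Nat.card A * Nat.card (fx M A) ≤ ms A (fx M A ⊔ cu A u) := by
  classical
  set C := fx M A with hC
  set W := C ⊔ cu A u with hW
  set D := fa A W with hD
  have hmem : ∀ a ∈ A, a • u - u ∈ W := fun a ha =>
    AddSubgroup.mem_sup_right (AddSubgroup.subset_closure ⟨a, ha, rfl⟩)
  have key : ∀ a ∈ A, ∀ b ∈ A, (a • u - u) - (b • u - u) ∈ C → b⁻¹ * a ∈ D := by
    intro a ha b hb h
    have hd : b⁻¹ * a ∈ A := mul_mem (inv_mem hb) ha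
    refine ⟨hd, ?_⟩
    have hdC : (b⁻¹ * a) • u - u ∈ C := by
      have h1 := h b⁻¹ (inv_mem hb)
      have h2 : (b⁻¹ * a) • u - u = b⁻¹ • ((a • u - u) - (b • u - u)) := by
        rw [mul_smul, smul_sub, smul_sub, smul_sub, inv_smul_smul]; abel
      rw [h2, h1]
      exact h
    have h3 : W ≤ (del M (b⁻¹ * a)).ker := by
      refine sup_le ?_ ?_
      · intro w hw
        rw [AddMonoidHom.mem_ker, del_apply, hw _ hd, sub_self]
      · refine (AddSubgroup.closure_le _).2 ?_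
        rintro _ ⟨c, hc, rfl⟩
        have h4 := hdC c hc
        rw [SetLike.mem_coe, AddMonoidHom.mem_ker, del_apply]
        have h5 : (b⁻¹ * a) • (c • u - u) - (c • u - u) = c • ((b⁻¹ * a) • u - u) - ((b⁻¹ * a) • u - u) := by
          rw [smul_sub, smul_sub, ← mul_smul, ← mul_smul, hA _ hd c hc]; abel
        rw [h5, h4, sub_self]
    intro w hw
    have h4 := h3 hw
    rw [AddMonoidHom.mem_ker, del_apply, sub_eq_zero] at h4
    exact h4
  have hidx : D.relIndex A ≤ C.relIndex W := by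
    let f : A ⧸ D.subgroupOf A → W ⧸ C.addSubgroupOf W := fun x =>
      QuotientAddGroup.mk ⟨((Quotient.out x : A) : G) • u - u, hmem _ (Quotient.out x).2⟩
    have hf : Function.Injective f := by
      intro x y hxy
      have h1 := QuotientAddGroup.eq.1 hxy
      rw [AddSubgroup.mem_addSubgroupOf] at h1
      have h2 := key _ (Quotient.out y).2 _ (Quotient.out x).2 (by
        have e : ((((Quotient.out y : A) : G) • u - u) - (((Quotient.out x : A) : G) • u - u)) =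
          ((-(⟨((Quotient.out x : A) : G) • u - u, hmem _ (Quotient.out x).2⟩ : W) +
            ⟨((Quotient.out y : A) : G) • u - u, hmem _ (Quotient.out y).2⟩ : W) : M) := by
          push_cast; abel
        rw [e]; exact h1)
      rw [← Quotient.out_eq x, ← Quotient.out_eq y]
      exact QuotientGroup.eq.2 (Subgroup.mem_subgroupOf.2 h2)
    have h1 := Nat.card_le_card_of_injective f hf
    exact h1
  have e1 : D.relIndex A * Nat.card D = Nat.card A := by
    rw [mul_comm]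
    have h := Subgroup.relIndex_mul_relIndex (⊥ : Subgroup G) D A bot_le (fa_le A W)
    rw [Subgroup.relIndex_bot_left, Subgroup.relIndex_bot_left] at h
    exact h
  have e2 : Nat.card C * C.relIndex W = Nat.card W := by
    have h := AddSubgroup.relIndex_mul_relIndex (⊥ : AddSubgroup M) C W bot_le le_sup_left
    rw [AddSubgroup.relIndex_bot_left, AddSubgroup.relIndex_bot_left] at h
    exact h
  unfold ms
  rw [← hD, ← e1, ← e2]
  calc D.relIndex A * Nat.card D * Nat.card C = Nat.card D * (Nat.card C * D.relIndex A) := by ring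
    _ ≤ Nat.card D * (Nat.card C * C.relIndex W) := by gcongr

/-- `C_M(A) + [M, A]` -/
def cw (A : Subgroup G) : AddSubgroup M := fx M A ⊔ AddSubgroup.closure {x | ∃ a ∈ A, ∃ u : M, x = a • u - u}

theorem cu_le_cw (A : Subgroup G) (u : M) : fx M A ⊔ cu A u ≤ cw A := by
  refine sup_le_sup le_rfl (AddSubgroup.closure_mono ?_)
  rintro x ⟨a, ha, rfl⟩
  exact ⟨a, ha, u, rfl⟩

/-- **Timmesfeld replacement**, module form. -/
theorem replace {A : Subgroup G} (hA : ∀ a ∈ A, ∀ b ∈ A, a * b = b * a)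
    (hmax : ∀ B : Subgroup G, B ≤ A → Nat.card B * Nat.card (fx M B) ≤ Nat.card A * Nat.card (fx M A)) :
    Nat.card A * Nat.card (fx M A) ≤ Nat.card (fa A (cw (M := M) A)) * Nat.card (cw (M := M) A) ∧
      cw (M := M) A ≤ fx M (fa A (cw (M := M) A)) := by
  classical
  set m := Nat.card A * Nat.card (fx M A) with hm
  have hmpos : 0 < m := Nat.mul_pos Nat.card_pos Nat.card_pos
  have hms : ∀ W : AddSubgroup M, ms A W ≤ m := by
    intro W
    refine le_trans (Nat.mul_le_mul_left _ ?_) (hmax (fa A W) (fa_le A W))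
    refine Nat.card_mono (Set.toFinite _) ?_
    intro w hw a ha
    exact ha.2 w hw
  obtain ⟨W, ⟨hW1, hW3, hW2⟩, hWmax⟩ := Set.exists_max_image
    {W : AddSubgroup M | fx M A ≤ W ∧ W ≤ cw A ∧ m ≤ ms A W}
    (fun W => Nat.card W) (Set.toFinite _) ⟨fx M A, le_rfl, le_sup_left, by
      unfold ms
      refine Nat.mul_le_mul_right _ (Subgroup.card_le_of_le ?_)
      intro a ha
      exact ⟨ha, fun w hw => hw a ha⟩⟩
  have hWe : W = cw A := by
    apply le_antisymm hW3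
    refine sup_le hW1 ((AddSubgroup.closure_le _).2 ?_)
    rintro _ ⟨a, ha, u, rfl⟩
    have h1 := le_ms hA u
    rw [← hm] at h1
    have h2 := ms_mul_le A W (fx M A ⊔ cu A u)
    have h3 : m ≤ ms A (W ⊔ (fx M A ⊔ cu A u)) := by
      have h4 : m * m ≤ ms A (W ⊔ (fx M A ⊔ cu A u)) * m :=
        (Nat.mul_le_mul hW2 h1).trans (h2.trans (Nat.mul_le_mul_left _ (hms _)))
      exact Nat.le_of_mul_le_mul_right h4 hmpos
    have h5 := hWmax (W ⊔ (fx M A ⊔ cu A u)) ⟨hW1.trans le_sup_left, sup_le hW3 (cu_le_cw A u), h3⟩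
    have h6 : W = W ⊔ (fx M A ⊔ cu A u) := by
      apply AddSubgroup.eq_of_le_of_card_ge le_sup_left h5
    rw [h6]
    exact AddSubgroup.mem_sup_right (AddSubgroup.mem_sup_right (AddSubgroup.subset_closure ⟨a, ha, rfl⟩))
  rw [← hWe]
  exact ⟨hW2, fun w hw a ha => ha.2 w hw⟩

/-- a nontrivial `p`-group has a nonzero fixed point on a nonzero finite module of exponent `p` -/
theorem exists_fixed {p : ℕ} [Fact p.Prime] {A : Type*} [Group A] {Q : Type*} [AddCommGroup Q] [Finite Q]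
    [DistribMulAction A Q] (hA : IsPGroup p A) (pQ : ∀ m : Q, p • m = 0) (hQ : ∃ q : Q, q ≠ 0) :
    ∃ q : Q, q ≠ 0 ∧ ∀ a : A, a • q = q := by
  classical
  have h1 : p ∣ Nat.card Q := by
    obtain ⟨q, hq⟩ := hQ
    have h2 : addOrderOf q = p := addOrderOf_eq_prime (pQ q) hq
    rw [← h2]
    exact addOrderOf_dvd_natCard q
  have h2 := hA.card_modEq_card_fixedPoints Q
  have h3 : p ∣ Nat.card (MulAction.fixedPoints A Q) := (Nat.modEq_zero_iff_dvd.1 (h2.symm.trans (Nat.modEq_zero_iff_dvd.2 h1)))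
  have h4 : 1 < Nat.card (MulAction.fixedPoints A Q) :=
    lt_of_lt_of_le (Fact.out : p.Prime).one_lt (Nat.le_of_dvd (Nat.card_pos_iff.2 ⟨⟨⟨0, fun a => smul_zero a⟩⟩, inferInstance⟩) h3)
  have : Nontrivial (MulAction.fixedPoints A Q) := Finite.one_lt_card_iff_nontrivial.1 h4
  obtain ⟨⟨q, hq⟩, hq0⟩ := exists_ne (⟨0, fun a => smul_zero a⟩ : MulAction.fixedPoints A Q)
  exact ⟨q, fun h => hq0 (Subtype.ext h), fun a => hq a⟩

/-- `C_M(A) + [M, A] = M` only if `A` acts trivially -/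
theorem cw_eq_top {p : ℕ} [Fact p.Prime] (pM : ∀ m : M, p • m = 0) {A : Subgroup G} (hA : IsPGroup p A)
    (h : cw (M := M) A = ⊤) : fx M A = ⊤ := by
  classical
  by_contra hne
  obtain ⟨U, ⟨hU1, hU2, hU3⟩, hUmax⟩ := Set.exists_max_image
    {U : AddSubgroup M | fx M A ≤ U ∧ U ≠ ⊤ ∧ ∀ a ∈ A, ∀ u ∈ U, a • u ∈ U}
    (fun W => Nat.card W) (Set.toFinite _) ⟨fx M A, le_rfl, hne, fun a ha u hu => by rw [hu a ha]; exact hu⟩
  let := quotAct (L := A) U (fun l m hm => hU3 l l.2 m hm)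
  have hmk : ∀ (l : A) (m : M), l • (QuotientAddGroup.mk m : M ⧸ U) = QuotientAddGroup.mk (l • m) := fun l m => rfl
  obtain ⟨q, hq0, hq⟩ := exists_fixed (Q := M ⧸ U) hA (by
    intro q
    obtain ⟨m, rfl⟩ := QuotientAddGroup.mk_surjective q
    rw [← QuotientAddGroup.mk_nsmul, pM]; rfl) (by
    by_contra hcon
    push Not at hcon
    apply hU2
    rw [eq_top_iff]
    intro m _
    exact (QuotientAddGroup.eq_zero_iff m).1 (hcon _))
  -- the preimage of the fixed points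
  let V : AddSubgroup M := {
    carrier := {m | ∀ a ∈ A, a • m - m ∈ U}
    zero_mem' := fun a _ => by rw [smul_zero, sub_zero]; exact zero_mem _
    add_mem' := by
      intro x y hx hy a ha
      have e : a • (x + y) - (x + y) = (a • x - x) + (a • y - y) := by rw [smul_add]; abel
      rw [e]; exact add_mem (hx a ha) (hy a ha)
    neg_mem' := by
      intro x hx a ha
      have e : a • (-x) - (-x) = -(a • x - x) := by rw [smul_neg]; abel
      rw [e]; exact neg_mem (hx a ha) }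
  have hUV : U ≤ V := fun u hu a ha => sub_mem (hU3 a ha u hu) hu
  obtain ⟨m, rfl⟩ := QuotientAddGroup.mk_surjective q
  have hmV : m ∈ V := by
    intro a ha
    have h1 := hq ⟨a, ha⟩
    rw [hmk, QuotientAddGroup.eq] at h1
    have h2 := neg_mem h1
    have e : -(-((⟨a, ha⟩ : A) • m) + m) = a • m - m := by
      show -(-(a • m) + m) = a • m - m
      abel
    rwa [e] at h2
  have hmU : m ∉ U := fun h' => hq0 ((QuotientAddGroup.eq_zero_iff m).2 h')
  have hVinv : ∀ a ∈ A, ∀ u ∈ V, a • u ∈ V := by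
    intro a ha u hu
    have h1 := hUV (hu a ha)
    have h2 := add_mem h1 hu
    rwa [sub_add_cancel] at h2
  have hVt : V = ⊤ := by
    by_contra hcon
    have h1 := hUmax V ⟨hU1.trans hUV, hcon, hVinv⟩
    have h2 : U = V := AddSubgroup.eq_of_le_of_card_ge hUV h1
    exact hmU (h2 ▸ hmV)
  apply hU2
  rw [eq_top_iff, ← h]
  refine sup_le hU1 ((AddSubgroup.closure_le _).2 ?_)
  rintro _ ⟨a, ha, u, rfl⟩
  have h1 : u ∈ V := hVt ▸ AddSubgroup.mem_top u
  exact h1 a ha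

end Repl

section Main

variable {G M : Type*} [Group G] [Finite G] [AddCommGroup M] [Finite M] [DistribMulAction G M]
  {p : ℕ} [hp : Fact p.Prime] {X A : Subgroup G}

/-- strongly `p`-embedded, elementwise -/
structure SE (p : ℕ) (X : Subgroup G) : Prop where
  ne : ∃ x, x ∉ X
  se : ∀ q ∈ X, q ≠ 1 → (∃ k, q ^ p ^ k = 1) → ∀ g, g ∉ X → g * q * g⁻¹ ∉ X

theorem isP (hAp : ∀ a ∈ A, a ^ p = 1) : IsPGroup p A := fun a => ⟨1, Subtype.ext (by simpa using hAp a a.2)⟩

theorem glob (pM : ∀ m : M, p • m = 0) (hX : SE p X) (hf : ∀ g : G, (∀ m : M, g • m = m) → g = 1)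
    (hAX : A ≤ X) (hAp : IsPGroup p A) (hne : A ≠ ⊥) (quad : ∀ a ∈ A, ∀ m : M, a • m - m ∈ fx M A)
    (hc : Nat.card M ≤ Nat.card A * Nat.card (fx M A)) : GlobHyp p M A X where
  pM := pM
  pA := hAp
  le := hAX
  quad := quad
  card := hc
  ne := hX.ne
  faithful := hf
  neA := by
    obtain ⟨a, ha⟩ := Subgroup.ne_bot_iff_exists_ne_one.1 hne
    exact ⟨a, a.2, fun h => ha (Subtype.ext h)⟩
  se := hX.se

theorem quad_fa (A : Subgroup G) : ∀ a ∈ fa A (cw (M := M) A), ∀ m : M, a • m - m ∈ fx M (fa A (cw (M := M) A)) := by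
  intro a ha m b hb
  exact hb.2 _ (AddSubgroup.mem_sup_right (AddSubgroup.subset_closure ⟨a, ha.1, m, rfl⟩))

/-- no over-offenders: faithful case -/
theorem card_mul_le_faithful (pM : ∀ m : M, p • m = 0) (hX : SE p X)
    (hf : ∀ g : G, (∀ m : M, g • m = m) → g = 1) (hAX : A ≤ X) (hAc : ∀ a ∈ A, ∀ b ∈ A, a * b = b * a)
    (hAp : IsPGroup p A) : Nat.card A * Nat.card (fx M A) ≤ Nat.card M := by
  classical
  by_contra hcon
  push Not at hcon
  obtain ⟨A₁, hA₁, hmax⟩ := Set.exists_max_image {B : Subgroup G | B ≤ A}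
    (fun B => Nat.card B * Nat.card (fx M B)) (Set.toFinite _) ⟨A, show A ≤ A from le_rfl⟩
  have hA₁ : A₁ ≤ A := hA₁
  have h0 : Nat.card M < Nat.card A₁ * Nat.card (fx M A₁) := hcon.trans_le (hmax A (show A ≤ A from le_rfl))
  obtain ⟨h1, h2⟩ := replace (M := M) (A := A₁) (fun a ha b hb => hAc a (hA₁ ha) b (hA₁ hb))
    (fun B hB => hmax B (hB.trans hA₁))
  set B := fa A₁ (cw (M := M) A₁) with hB
  have h3 : Nat.card M < Nat.card B * Nat.card (fx M B) :=
    h0.trans_le (h1.trans (Nat.mul_le_mul_left _ (Nat.card_mono (Set.toFinite _) h2)))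
  have hBne : B ≠ ⊥ := by
    intro h4
    rw [h4, Subgroup.card_bot, one_mul] at h3
    exact absurd (AddSubgroup.card_le_card_addGroup (fx M (⊥ : Subgroup G))) (not_le.2 h3)
  have hBA : B ≤ A := (fa_le _ _).trans hA₁
  have h5 := (glob pM hX hf (hBA.trans hAX) (hAp.to_le hBA) hBne (quad_fa A₁) h3.le).index_A
  have h6 := (fx M B).card_mul_index
  rw [h5, mul_comm] at h6
  omega

/-- offenders are Sylow subgroups (faithful case) -/
theorem offender (pM : ∀ m : M, p • m = 0) (hX : SE p X)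
    (hf : ∀ g : G, (∀ m : M, g • m = m) → g = 1) (hAX : A ≤ X) (hAc : ∀ a ∈ A, ∀ b ∈ A, a * b = b * a)
    (hAp : IsPGroup p A) (hAne : A ≠ ⊥) (hc : Nat.card M ≤ Nat.card A * Nat.card (fx M A)) :
    GlobHyp p M A X ∧ (fx M A).index = Nat.card A ∧ (∀ S : Sylow p G, A ≤ S → (S : Subgroup G) = A) ∧
      (∀ a ∈ A, a ≠ 1 → ∀ m : M, a • m = m → m ∈ fx M A) := by
  classical
  obtain ⟨h1, h2⟩ := replace (M := M) (A := A) hAc (fun B hB =>
    (card_mul_le_faithful pM hX hf (hB.trans hAX) (fun a ha b hb => hAc a (hB ha) b (hB hb)) (hAp.to_le hB)).trans hc)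
  set B := fa A (cw (M := M) A) with hB
  have h3 : Nat.card M ≤ Nat.card B * Nat.card (fx M B) :=
    hc.trans (h1.trans (Nat.mul_le_mul_left _ (Nat.card_mono (Set.toFinite _) h2)))
  have hBne : B ≠ ⊥ := by
    intro h4
    have h5 : cw (M := M) A = ⊤ := by
      have h6 := hc.trans h1
      rw [h4, Subgroup.card_bot, one_mul] at h6
      exact AddSubgroup.eq_top_of_card_eq _ (le_antisymm (AddSubgroup.card_le_card_addGroup _) h6)
    have h6 := cw_eq_top pM hAp h5
    apply hAne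
    rw [eq_bot_iff]
    intro a ha
    rw [Subgroup.mem_bot]
    apply hf
    intro m
    have h7 : m ∈ fx M A := h6 ▸ AddSubgroup.mem_top m
    exact h7 a ha
  have hBA : B ≤ A := fa_le _ _
  have hg := glob pM hX hf (hBA.trans hAX) (hAp.to_le hBA) hBne (quad_fa A) h3
  obtain ⟨x, hx, hcov⟩ := hg.exists_base
  obtain ⟨S, hS⟩ := hAp.exists_le_sylow
  have h4 := hg.sylow_eq hx hcov S (hBA.trans hS)
  have h5 : B = A := le_antisymm hBA (by rw [← h4]; exact hS)
  rw [h5] at hg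
  have hq := hg.index_A
  refine ⟨hg, hq, fun S hS => ?_, fun a ha ha1 m hm => hg.fix_elem ha ha1 hm⟩
  obtain ⟨x, hx, hcov⟩ := hg.exists_base
  exact hg.sylow_eq hx hcov S hS

end Main

end Cfsg.Agent.H218.Fus
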