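import Mathlib
import Cfsg.Agent.H218.Fus.P

/-!
# The inequality with a kernel of order prime to `p`, and its dual

Main theorems: `card_mul_le`, `card_le_index`, `card_le_comm`; `SE` from `IsStronglyPEmbedded`: `se_of`.
-/

set_option autoImplicit false
set_option linter.unusedSectionVars false
set_option linter.unusedVariables false

namespace Cfsg.Agent.H218.Fus

open Cfsg.Agent.H218.Count Cfsg.Agent.H218.CountQ Cfsg.Agent.H218.Glob

section Map

variable {G G' : Type*} [Group G] [Finite G] [Group G'] {p : ℕ} [hp : Fact p.Prime] {X : Subgroup G}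

/-- a `p`-element of the image of `X` lifts to a `p`-element of `X` -/
theorem exists_lift (φ : G →* G') {q₀ : G} (hq₀ : q₀ ∈ X) (hq : ∃ k, (φ q₀) ^ p ^ k = 1) :
    ∃ q ∈ X, φ q = φ q₀ ∧ ∃ k, q ^ p ^ k = 1 := by
  obtain ⟨k, hk⟩ := hq
  obtain ⟨i, m, hm, hN⟩ := Nat.exists_eq_pow_mul_and_not_dvd (orderOf_pos q₀).ne' p hp.out.ne_one
  have hcop : Nat.Coprime m (p ^ k) := ((hp.out.coprime_iff_not_dvd.2 hm).pow_left k).symm
  obtain ⟨s, hs1, hs2⟩ := Nat.chineseRemainder hcop 0 1
  refine ⟨q₀ ^ s, pow_mem hq₀ s, ?_, i, ?_⟩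
  · rw [map_pow]
    have h1 : (φ q₀) ^ s = (φ q₀) ^ 1 := by
      rw [pow_eq_pow_iff_modEq]
      exact hs2.of_dvd (orderOf_dvd_of_pow_eq_one hk)
    rw [h1, pow_one]
  · rw [← pow_mul]
    apply orderOf_dvd_iff_pow_eq_one.1
    rw [hN, mul_comm s]
    exact Nat.mul_dvd_mul_left _ (Nat.modEq_zero_iff_dvd.1 hs1)

theorem mem_of_map {φ : G →* G'} (hK : φ.ker ≤ X) {g : G} (h : φ g ∈ X.map φ) : g ∈ X := by
  obtain ⟨y, hy, hyg⟩ := h
  have h1 : g * y⁻¹ ∈ φ.ker := by
    rw [MonoidHom.mem_ker, map_mul, map_inv, hyg, mul_inv_cancel]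
  have h2 := mul_mem (hK h1) hy
  rwa [inv_mul_cancel_right] at h2

theorem SE.map (hX : SE p X) {φ : G →* G'} (hφ : Function.Surjective φ) (hK : φ.ker ≤ X) : SE p (X.map φ) where
  ne := by
    obtain ⟨x, hx⟩ := hX.ne
    exact ⟨φ x, fun h => hx (mem_of_map hK h)⟩
  se := by
    rintro _ ⟨q₀, hq₀, rfl⟩ hq1 hqp g' hg' hmem
    obtain ⟨g, rfl⟩ := hφ g'
    obtain ⟨q, hq, hqq, hqk⟩ := exists_lift φ hq₀ hqp
    have hg : g ∉ X := fun h => hg' ⟨g, h, rfl⟩
    have hq1' : q ≠ 1 := by
      rintro rfl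
      rw [map_one] at hqq
      exact hq1 hqq.symm
    apply hX.se q hq hq1' hqk g hg
    apply mem_of_map hK
    rw [map_mul, map_mul, map_inv, hqq]
    exact hmem

/-- `SE` from the prelude's definition -/
theorem se_of (hX : Cfsg.IsStronglyPEmbedded p X) : SE p X where
  ne := by
    by_contra hcon
    push Not at hcon
    exact hX.2.1 (eq_top_iff.2 fun x _ => hcon x)
  se := by
    intro q hq hq1 hqp k hk hmem
    have h1 := Cfsg.Agent.EvenType.StrongP.inter hX hk
    apply h1
    have h2 : k * q * k⁻¹ ∈ X ⊓ X.map (MulAut.conj k).toMonoidHom := ⟨hmem, ⟨q, hq, rfl⟩⟩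
    have h3 : orderOf (k * q * k⁻¹) ∣ Nat.card ↥(X ⊓ X.map (MulAut.conj k).toMonoidHom) :=
      Subgroup.orderOf_dvd_natCard _ h2
    refine dvd_trans ?_ h3
    have h4 : orderOf (k * q * k⁻¹) = orderOf q := by
      have := orderOf_injective (MulAut.conj k).toMonoidHom (MulAut.conj k).injective q
      simpa using this
    rw [h4]
    obtain ⟨n, hn⟩ := hqp
    obtain ⟨i, hi, hi2⟩ := (Nat.dvd_prime_pow hp.out).1 (orderOf_dvd_of_pow_eq_one hn)
    rw [hi2]
    refine dvd_pow_self p ?_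
    rintro rfl
    rw [pow_zero, orderOf_eq_one_iff] at hi2
    exact hq1 hi2

/-- centralizers of nontrivial `p`-elements of `X` are in `X` -/
theorem SE.cent (hX : SE p X) {q : G} (hq : q ∈ X) (hq1 : q ≠ 1) (hqp : ∃ k, q ^ p ^ k = 1) {g : G}
    (hg : g * q = q * g) : g ∈ X := by
  by_contra hcon
  apply hX.se q hq hq1 hqp g hcon
  rw [hg, mul_inv_cancel_right]
  exact hq

/-- a normal `p'`-subgroup is in `X` if `X` contains a noncyclic abelian group of exponent `p` -/
theorem SE.normal_le (hX : SE p X) {A : Subgroup G} (hAX : A ≤ X) (hAc : ∀ a ∈ A, ∀ b ∈ A, a * b = b * a)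
    (hAp : ∀ a ∈ A, a ^ p = 1) (hcy : ¬ IsCyclic A) {K : Subgroup G} (hAK : A ≤ Subgroup.normalizer (K : Set G))
    (hK : ¬ p ∣ Nat.card K) : K ≤ X := by
  have : IsMulCommutative A := ⟨⟨fun a b => Subtype.ext (hAc a a.2 b b.2)⟩⟩
  obtain ⟨n, hn⟩ := IsPGroup.iff_card.1 (isP hAp)
  have hcop : (Nat.card A).Coprime (Nat.card K) := by
    rw [hn]
    exact ((hp.out.coprime_iff_not_dvd.2 hK).pow_left n)
  rw [← Cfsg.Agent.S0058.result A K hcy hAK hcop]
  refine iSup₂_le ?_
  rintro a ⟨ha, ha1⟩ g ⟨hg, hg2⟩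
  exact hX.cent (hAX ha) ha1 ⟨1, by rw [pow_one]; exact hAp a ha⟩ (Subgroup.mem_centralizer_singleton_iff.1 hg2)

end Map

section Main

variable {G M : Type*} [Group G] [Finite G] [AddCommGroup M] [Finite M] [DistribMulAction G M]
  {p : ℕ} [hp : Fact p.Prime] {X A : Subgroup G}

theorem p_dvd_index (pM : ∀ m : M, p • m = 0) {N : AddSubgroup M} (hN : N ≠ ⊤) : p ∣ N.index := by
  have : ∃ m : M, m ∉ N := by
    by_contra hcon
    push Not at hcon
    exact hN (eq_top_iff.2 fun x _ => hcon x)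
  obtain ⟨m, hm⟩ := this
  have h1 : addOrderOf (QuotientAddGroup.mk m : M ⧸ N) = p := by
    refine addOrderOf_eq_prime ?_ ?_
    · rw [← QuotientAddGroup.mk_nsmul, pM]; rfl
    · exact fun h => hm ((QuotientAddGroup.eq_zero_iff m).1 h)
  rw [AddSubgroup.index_eq_card, ← h1]
  exact addOrderOf_dvd_natCard _

/-- the image of `G` in the symmetric group acts -/
@[reducible] def rangeAct (G M : Type*) [Group G] [AddCommGroup M] [DistribMulAction G M] :
    DistribMulAction (MulAction.toPermHom G M).range M where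
  smul σ m := (σ : Equiv.Perm M) m
  one_smul _ := rfl
  mul_smul _ _ _ := rfl
  smul_zero := by rintro ⟨_, g, rfl⟩; exact smul_zero g
  smul_add := by rintro ⟨_, g, rfl⟩ x y; exact smul_add g x y

/-- **no over-offenders** -/
theorem card_mul_le (pM : ∀ m : M, p • m = 0) (hX : SE p X)
    (hf : ∀ g : G, (∀ m : M, g • m = m) → (∃ k, g ^ p ^ k = 1) → g = 1) (hAX : A ≤ X)
    (hAc : ∀ a ∈ A, ∀ b ∈ A, a * b = b * a) (hAp : ∀ a ∈ A, a ^ p = 1) :
    Nat.card A * Nat.card (fx M A) ≤ Nat.card M := by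
  classical
  by_cases hcy : IsCyclic A
  · obtain ⟨a, ha⟩ := hcy.exists_generator
    have h1 : orderOf a = Nat.card A := orderOf_eq_card_of_forall_mem_zpowers ha
    have h2 : orderOf a ∣ p := orderOf_dvd_of_pow_eq_one (Subtype.ext (by simpa using hAp a a.2))
    rcases (Nat.dvd_prime hp.out).1 h2 with h3 | h3
    · rw [← h1, h3, one_mul]
      exact AddSubgroup.card_le_card_addGroup _
    · rw [← h1, h3, ← (fx M A).card_mul_index, mul_comm]
      refine Nat.mul_le_mul_left _ (Nat.le_of_dvd (Nat.pos_of_ne_zero AddSubgroup.index_ne_zero_of_finite)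
        (p_dvd_index pM ?_))
      intro h4
      have h5 : (a : G) = 1 := by
        refine hf a (fun m => ?_) ⟨1, by rw [pow_one]; exact hAp a a.2⟩
        have h6 : m ∈ fx M A := h4 ▸ AddSubgroup.mem_top m
        exact h6 a a.2
      have h6 : a = 1 := Subtype.ext h5
      rw [h6, orderOf_one] at h3
      exact hp.out.one_lt.ne h3
  · set f : G →* Equiv.Perm M := MulAction.toPermHom G M with hfdef
    let := rangeAct G M
    let φ : G →* f.range := f.rangeRestrict
    have hφ : Function.Surjective φ := f.rangeRestrict_surjective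
    have hfin : Finite f.range := Finite.of_surjective φ hφ
    have hact : ∀ (g : G) (m : M), (φ g) • m = g • m := fun g m => rfl
    have hker : ∀ g : G, φ g = 1 → ∀ m : M, g • m = m := by
      intro g hg m
      rw [← hact, hg, one_smul]
    have hKX : φ.ker ≤ X := by
      apply hX.normal_le hAX hAc hAp hcy
      · intro a _
        rw [Subgroup.normalizer_eq_top (φ.ker)]
        trivial
      · intro hdvd
        obtain ⟨⟨g, hg⟩, hgp⟩ := exists_prime_orderOf_dvd_card' p hdvd
        have h1 : g = 1 := hf g (hker g hg) ⟨1, by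
          rw [pow_one]
          have h2 := pow_orderOf_eq_one (⟨g, hg⟩ : φ.ker)
          rw [hgp] at h2
          exact congrArg Subtype.val h2⟩
        have h2 : (⟨g, hg⟩ : φ.ker) = 1 := Subtype.ext h1
        rw [h2, orderOf_one] at hgp
        exact hp.out.one_lt.ne hgp
    have h1 := card_mul_le_faithful (M := M) (A := A.map φ) pM (hX.map hφ hKX) (by
      intro g hg
      apply Subtype.ext
      ext m
      exact hg m) (Subgroup.map_mono hAX) (by
      rintro _ ⟨a, ha, rfl⟩ _ ⟨b, hb, rfl⟩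
      rw [← map_mul, ← map_mul, hAc a ha b hb]) ((isP hAp).map φ)
    have h2 : fx M (A.map φ) = fx M A := by
      ext m
      constructor
      · intro h a ha
        rw [← hact]
        exact h _ ⟨a, ha, rfl⟩
      · rintro h _ ⟨a, ha, rfl⟩
        rw [hact]
        exact h a ha
    have h3 : Nat.card A ≤ Nat.card (A.map φ) := by
      have : Finite (A.map φ) := inferInstance
      refine Nat.card_le_card_of_injective (fun a : A => (⟨φ a, ⟨a, a.2, rfl⟩⟩ : A.map φ)) ?_
      intro a b hab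
      have h4 : φ (a : G) = φ (b : G) := congrArg Subtype.val hab
      have h5 : ((a : G) * (b : G)⁻¹) = 1 := by
        refine hf _ (hker _ (by rw [map_mul, map_inv, h4, mul_inv_cancel])) ⟨1, ?_⟩
        rw [pow_one]
        exact hAp _ (mul_mem a.2 (inv_mem b.2))
      exact Subtype.ext (mul_inv_eq_one.1 h5)
    rw [h2] at h1
    exact (Nat.mul_le_mul_right _ h3).trans h1

theorem card_le_index (pM : ∀ m : M, p • m = 0) (hX : SE p X)
    (hf : ∀ g : G, (∀ m : M, g • m = m) → (∃ k, g ^ p ^ k = 1) → g = 1) (hAX : A ≤ X)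
    (hAc : ∀ a ∈ A, ∀ b ∈ A, a * b = b * a) (hAp : ∀ a ∈ A, a ^ p = 1) :
    Nat.card A ≤ (fx M A).index := by
  have h1 := card_mul_le pM hX hf hAX hAc hAp
  rw [← (fx M A).card_mul_index, mul_comm] at h1
  exact Nat.le_of_mul_le_mul_left h1 Nat.card_pos

end Main

section Dual

variable {G M : Type*} [Group G] [AddCommGroup M] [DistribMulAction G M] {p : ℕ}

/-- the dual action -/
@[reducible] def dualAct (G M : Type*) [Group G] [AddCommGroup M] [DistribMulAction G M] (p : ℕ) :
    DistribMulAction G (M →+ ZMod p) where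
  smul g f := f.comp (DistribSMul.toAddMonoidHom M g⁻¹)
  one_smul f := by
    ext m
    show f ((1 : G)⁻¹ • m) = f m
    rw [inv_one, one_smul]
  mul_smul g h f := by
    ext m
    show f ((g * h)⁻¹ • m) = f (h⁻¹ • g⁻¹ • m)
    rw [mul_inv_rev, mul_smul]
  smul_zero g := rfl
  smul_add g f f' := rfl

theorem card_dual' (p : ℕ) [Fact p.Prime] {Q : Type*} [AddCommGroup Q] [Finite Q] [Module (ZMod p) Q] :
    Nat.card (Q →+ ZMod p) = Nat.card Q := by
  have h1 : Nat.card (Q →+ ZMod p) = Nat.card (Q →ₗ[ZMod p] ZMod p) :=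
    Nat.card_congr (AddMonoidHom.toZModLinearMapEquiv p).toEquiv
  have h2 : Module.Finite (ZMod p) Q := Module.Finite.of_finite
  have h3 := Subspace.dual_finrank_eq (K := ZMod p) (V := Q)
  have h4 := Module.natCard_eq_pow_finrank (K := ZMod p) (V := Q)
  have h5 := Module.natCard_eq_pow_finrank (K := ZMod p) (V := Q →ₗ[ZMod p] ZMod p)
  rw [h1, h4, h5]
  exact congrArg _ h3

theorem exists_sep' (p : ℕ) [Fact p.Prime] {Q : Type*} [AddCommGroup Q] [Finite Q] [Module (ZMod p) Q]
    {v : Q} (h : ∀ f : Q →+ ZMod p, f v = 0) : v = 0 := by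
  apply (Module.forall_dual_apply_eq_zero_iff (ZMod p) v).1
  intro f
  exact h (LinearMap.toAddMonoidHom f)

theorem card_dual (p : ℕ) [Fact p.Prime] {Q : Type*} [AddCommGroup Q] [Finite Q] (pQ : ∀ m : Q, p • m = 0) :
    Nat.card (Q →+ ZMod p) = Nat.card Q := by
  let := AddCommGroup.zmodModule pQ
  exact card_dual' p

theorem exists_sep (p : ℕ) [Fact p.Prime] {Q : Type*} [AddCommGroup Q] [Finite Q] (pQ : ∀ m : Q, p • m = 0)
    {v : Q} (h : ∀ f : Q →+ ZMod p, f v = 0) : v = 0 := by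
  let := AddCommGroup.zmodModule pQ
  exact exists_sep' p h

/-- `[M, A]` -/
def cm (M : Type*) [AddCommGroup M] [DistribMulAction G M] (A : Subgroup G) : AddSubgroup M :=
  AddSubgroup.closure {x | ∃ a ∈ A, ∃ u : M, x = a • u - u}

variable [Finite G] [Finite M] [hp : Fact p.Prime] {X A : Subgroup G}

/-- **the dual inequality** -/
theorem card_le_comm (pM : ∀ m : M, p • m = 0) (hX : SE p X)
    (hf : ∀ g : G, (∀ m : M, g • m = m) → (∃ k, g ^ p ^ k = 1) → g = 1) (hAX : A ≤ X)
    (hAc : ∀ a ∈ A, ∀ b ∈ A, a * b = b * a) (hAp : ∀ a ∈ A, a ^ p = 1) :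
    Nat.card A ≤ Nat.card (cm M A) := by
  classical
  let := dualAct G M p
  have hact : ∀ (g : G) (f : M →+ ZMod p) (m : M), (g • f) m = f (g⁻¹ • m) := fun g f m => rfl
  have hfin : Finite (M →+ ZMod p) := DFunLike.finite _
  have h1 := card_mul_le (M := M →+ ZMod p) (A := A) (p := p) (by
    intro f
    ext m
    show p • f m = 0
    rw [nsmul_eq_mul, CharP.cast_eq_zero, zero_mul]) hX (by
    intro g hg hgp
    refine hf g (fun m => ?_) hgp
    have h2 : g⁻¹ • m - m = 0 := by
      apply exists_sep p pM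
      intro f
      have h3 := DFunLike.congr_fun (hg f) m
      rw [hact] at h3
      rw [map_sub, h3, sub_self]
    rw [sub_eq_zero, inv_smul_eq_iff] at h2
    exact h2.symm) hAX hAc hAp
  have h2 : Nat.card (fx (M →+ ZMod p) A) = (cm M A).index := by
    rw [AddSubgroup.index_eq_card, ← card_dual p (Q := M ⧸ cm M A) (by
      intro q
      obtain ⟨m, rfl⟩ := QuotientAddGroup.mk_surjective q
      rw [← QuotientAddGroup.mk_nsmul, pM]; rfl)]
    refine Nat.card_congr ⟨fun f => QuotientAddGroup.lift (cm M A) f.1 ?_, fun f =>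
      ⟨f.comp (QuotientAddGroup.mk' (cm M A)), ?_⟩, ?_, ?_⟩
    · show cm M A ≤ (f.1).ker
      refine (AddSubgroup.closure_le _).2 ?_
      rintro _ ⟨a, ha, u, rfl⟩
      rw [SetLike.mem_coe, AddMonoidHom.mem_ker, map_sub, sub_eq_zero]
      have h3 := DFunLike.congr_fun (f.2 a⁻¹ (inv_mem ha)) u
      rw [hact, inv_inv] at h3
      exact h3
    · intro a ha
      ext m
      rw [hact]
      show f (QuotientAddGroup.mk (a⁻¹ • m)) = f (QuotientAddGroup.mk m)
      congr 1
      rw [QuotientAddGroup.eq]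
      have h3 : a⁻¹ • m - m ∈ cm M A := AddSubgroup.subset_closure ⟨a⁻¹, inv_mem ha, m, rfl⟩
      have h4 := neg_mem h3
      have e : -(a⁻¹ • m - m) = -(a⁻¹ • m) + m := by abel
      rwa [e] at h4
    · intro f
      apply Subtype.ext
      ext m
      rfl
    · intro f
      ext m
      rfl
  rw [h2, card_dual p pM, ← (cm M A).card_mul_index] at h1
  exact Nat.le_of_mul_le_mul_right h1 (Nat.pos_of_ne_zero AddSubgroup.index_ne_zero_of_finite)

end Dual

end Cfsg.Agent.H218.Fus
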