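import Mathlib
import Cfsg.Agent.H218.Fus.PK

/-!
# The inequalities modulo a normal subgroup acting trivially
-/

set_option autoImplicit false
set_option linter.unusedSectionVars false
set_option linter.unusedVariables false

namespace Cfsg.Agent.H218.Fus

open Cfsg.Agent.H218.Count Cfsg.Agent.H218.CountQ Cfsg.Agent.H218.Glob

section Mod

variable {G M : Type*} [Group G] [Finite G] [AddCommGroup M] [Finite M] [DistribMulAction G M]
  {p : ℕ} [hp : Fact p.Prime] {I X A : Subgroup G}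

/-- strongly `p`-embedded modulo `I` -/
structure SEm (p : ℕ) (I X : Subgroup G) : Prop where
  le : I ≤ X
  ne : ∃ x, x ∉ X
  se : ∀ q ∈ X, q ∉ I → (∃ k, q ^ p ^ k = 1) → ∀ g, g ∉ X → g * q * g⁻¹ ∉ X

theorem SEm.quot [I.Normal] (hX : SEm p I X) : SE p (X.map (QuotientGroup.mk' I)) where
  ne := by
    obtain ⟨x, hx⟩ := hX.ne
    exact ⟨QuotientGroup.mk' I x, fun h => hx (mem_of_map (by rw [QuotientGroup.ker_mk']; exact hX.le) h)⟩
  se := by
    have hK : (QuotientGroup.mk' I).ker ≤ X := by rw [QuotientGroup.ker_mk']; exact hX.le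
    rintro _ ⟨q₀, hq₀, rfl⟩ hq1 hqp g' hg' hmem
    obtain ⟨g, rfl⟩ := QuotientGroup.mk'_surjective I g'
    obtain ⟨q, hq, hqq, hqk⟩ := exists_lift (QuotientGroup.mk' I) hq₀ hqp
    have hg : g ∉ X := fun h => hg' ⟨g, h, rfl⟩
    have hq1' : q ∉ I := by
      intro h
      have h1 : QuotientGroup.mk' I q = 1 := (QuotientGroup.eq_one_iff q).2 h
      rw [hqq] at h1
      exact hq1 h1
    apply hX.se q hq hq1' hqk g hg
    apply mem_of_map hK
    rw [map_mul, map_mul, map_inv, hqq]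
    exact hmem

/-- the action of the quotient -/
@[reducible] def modAct (M : Type*) [AddCommGroup M] [DistribMulAction G M] (I : Subgroup G) [I.Normal]
    (hI : ∀ g ∈ I, ∀ m : M, g • m = m) : DistribMulAction (G ⧸ I) M where
  smul x m := QuotientGroup.lift I (MulAction.toPermHom G M) (fun g hg => by
    ext m
    exact hI g hg m) x m
  one_smul m := by
    show QuotientGroup.lift I (MulAction.toPermHom G M) _ 1 m = m
    rw [map_one]; rfl
  mul_smul x y m := by
    show QuotientGroup.lift I (MulAction.toPermHom G M) _ (x * y) m = _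
    rw [map_mul]; rfl
  smul_zero x := by
    obtain ⟨g, rfl⟩ := QuotientGroup.mk_surjective x
    exact smul_zero g
  smul_add x m n := by
    obtain ⟨g, rfl⟩ := QuotientGroup.mk_surjective x
    exact smul_add g m n

/-- **Main inequalities modulo `I`.** -/
theorem mod_main [I.Normal] (pM : ∀ m : M, p • m = 0) (hX : SEm p I X) (hI : ∀ g ∈ I, ∀ m : M, g • m = m)
    (hf : ∀ g : G, (∀ m : M, g • m = m) → (∃ k, g ^ p ^ k = 1) → g ∈ I) (hAX : A ≤ X)
    (hAc : ∀ a ∈ A, ∀ b ∈ A, a * b * a⁻¹ * b⁻¹ ∈ I) (hAp : ∀ a ∈ A, a ^ p ∈ I) :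
    I.relIndex A ≤ (fx M A).index ∧ I.relIndex A ≤ Nat.card (cm M A) := by
  classical
  let := modAct M I hI
  let φ : G →* G ⧸ I := QuotientGroup.mk' I
  have hact : ∀ (g : G) (m : M), (φ g) • m = g • m := fun g m => rfl
  have hSE := hX.quot
  have hf' : ∀ x : G ⧸ I, (∀ m : M, x • m = m) → (∃ k, x ^ p ^ k = 1) → x = 1 := by
    intro x hx hxp
    obtain ⟨g₀, rfl⟩ := QuotientGroup.mk'_surjective I x
    obtain ⟨g, -, hg, hgp⟩ := exists_lift (X := ⊤) φ (q₀ := g₀) (Subgroup.mem_top _) hxp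
    have h1 : g ∈ I := hf g (fun m => by
      have h2 := hx m
      change φ g₀ • m = m at h2
      rw [← hg] at h2
      exact h2) hgp
    change φ g₀ = 1
    rw [← hg]
    exact (QuotientGroup.eq_one_iff g).2 h1
  have hAX' : A.map φ ≤ X.map φ := Subgroup.map_mono hAX
  have hAc' : ∀ a ∈ A.map φ, ∀ b ∈ A.map φ, a * b = b * a := by
    rintro _ ⟨a, ha, rfl⟩ _ ⟨b, hb, rfl⟩
    have h1 : φ (a * b * a⁻¹ * b⁻¹) = 1 := (QuotientGroup.eq_one_iff _).2 (hAc a ha b hb)
    rw [map_mul, map_mul, map_mul, map_inv, map_inv, mul_inv_eq_one, mul_inv_eq_iff_eq_mul] at h1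
    exact h1
  have hAp' : ∀ a ∈ A.map φ, a ^ p = 1 := by
    rintro _ ⟨a, ha, rfl⟩
    rw [← map_pow]
    exact (QuotientGroup.eq_one_iff _).2 (hAp a ha)
  have hfx : fx M (A.map φ) = fx M A := by
    ext m
    constructor
    · intro h a ha
      rw [← hact]
      exact h _ ⟨a, ha, rfl⟩
    · rintro h _ ⟨a, ha, rfl⟩
      rw [hact]
      exact h a ha
  have hcm : cm M (A.map φ) = cm M A := by
    unfold cm
    congr 1
    ext x
    constructor
    · rintro ⟨_, ⟨a, ha, rfl⟩, u, rfl⟩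
      exact ⟨a, ha, u, by rw [hact]⟩
    · rintro ⟨a, ha, u, rfl⟩
      exact ⟨φ a, ⟨a, ha, rfl⟩, u, by rw [hact]⟩
  have hcard : I.relIndex A = Nat.card (A.map φ) := by
    have h1 := Subgroup.relIndex_ker (K := A) φ
    rwa [QuotientGroup.ker_mk'] at h1
  have h1 := card_le_index pM hSE hf' hAX' hAc' hAp'
  have h2 := card_le_comm pM hSE hf' hAX' hAc' hAp'
  rw [hfx, ← hcard] at h1
  rw [hcm, ← hcard] at h2
  exact ⟨h1, h2⟩

end Mod

end Cfsg.Agent.H218.Fus
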