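import Cfsg.Agent.H756.PU.Engine
import Cfsg.Agent.H802.FusEss
import Cfsg.Agent.H218.Fus.PM

/-!
# Lemmas about `Ess` (helper756's structure of an essential subgroup)
-/

set_option autoImplicit false
set_option linter.unusedVariables false

namespace Cfsg.Agent.H218.Fus

open Cfsg Cfsg.FusionSystem Cfsg.Agent.H756.PU Cfsg.Agent.H802

variable {Ω : Type*} [Group Ω] {S E : Subgroup Ω} {p : ℕ} {Γ : Subgroup (MulAut E)}

theorem finE (h : Ess S E p Γ) : Finite E := by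
  have := h.fin
  exact finite_of_le h.E_le

theorem inn_le_T (h : Ess S E p Γ) : Inn E ≤ autInducedBy S E := inn_le_autInducedBy h.E_le

theorem inn_le_Γ (h : Ess S E p Γ) : Inn E ≤ Γ := (inn_le_T h).trans h.indu

theorem mem_of_inn (h : Ess S E p Γ) {x : Ω} (hx : x ∈ S) {α : MulAut E} (hα : IsC x α) (hI : α ∈ Inn E) : x ∈ E := by
  refine mem_of_conj_mem_inn h.E_le ?_ hx hα hI
  rintro y ⟨hy, hyc⟩
  exact h.cent y hy fun e he => (Subgroup.mem_centralizer_iff.1 hyc e he).symm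

theorem isPGroup_T (h : Ess S E p Γ) : IsPGroup p (autInducedBy S E) := isPGroup_autInducedBy h.pgr E

/-- a Sylow subgroup of `Γ` -/
theorem exists_sylow (h : Ess S E p Γ) : ∃ R : Sylow p Γ, (R : Subgroup Γ) = (autInducedBy S E).subgroupOf Γ := by
  classical
  have := finE h
  have hp : Fact p.Prime := ⟨h.pp⟩
  have hTp : IsPGroup p ((autInducedBy S E).subgroupOf Γ) := (isPGroup_T h).comap_subtype
  obtain ⟨R, hR⟩ := hTp.exists_le_sylow
  refine ⟨R, ?_⟩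
  obtain ⟨g, hg, hgR⟩ := h.syl ((R : Subgroup Γ).map Γ.subtype) (Subgroup.map_subtype_le _) (R.isPGroup'.map _)
  -- cardinality
  symm
  apply Subgroup.eq_of_le_of_card_ge hR
  refine Nat.card_le_card_of_injective (fun x : (R : Subgroup Γ) => (⟨⟨g * (x : Γ) * g⁻¹, ?_⟩, ?_⟩ :
    (autInducedBy S E).subgroupOf Γ)) ?_
  · exact mul_mem (mul_mem hg (x : Γ).2) (inv_mem hg)
  · rw [Subgroup.mem_subgroupOf]
    exact hgR _ ⟨x, x.2, rfl⟩
  · intro x y hxy
    have h1 : g * ((x : Γ) : MulAut E) * g⁻¹ = g * ((y : Γ) : MulAut E) * g⁻¹ :=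
      congrArg (fun z : (autInducedBy S E).subgroupOf Γ => ((z : Γ) : MulAut E)) hxy
    have h2 : ((x : Γ) : MulAut E) = ((y : Γ) : MulAut E) := mul_left_cancel (mul_right_cancel h1)
    exact Subtype.ext (Subtype.ext h2)

/-- the subgroup `H` of `spe` contains the normalizer of `Aut_S(E)` -/
theorem norm_le {H : Subgroup (MulAut E)} (h : Ess S E p Γ) (hTH : autInducedBy S E ≤ H)
    (hTI : ¬ autInducedBy S E ≤ Inn E)
    (hse : ∀ g ∈ Γ, g ∉ H → ∀ x ∈ H, g * x * g⁻¹ ∈ H → (∃ k : ℕ, x ^ p ^ k = 1) → x ∈ Inn E)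
    {g : MulAut E} (hg : g ∈ Γ) (hgn : ∀ x ∈ autInducedBy S E, g * x * g⁻¹ ∈ autInducedBy S E) : g ∈ H := by
  by_contra hcon
  apply hTI
  intro x hx
  obtain ⟨k, hk⟩ := isPGroup_T h ⟨x, hx⟩
  exact hse g hg hcon x (hTH hx) (hTH (hgn x hx)) ⟨k, congrArg Subtype.val hk⟩

/-- a normal subgroup of `Γ` containing `Aut_S(E)` is not in `H` -/
theorem exists_not_mem {H : Subgroup (MulAut E)} (h : Ess S E p Γ) (hHΓ : H ≤ Γ) (hHne : H ≠ Γ)
    (hTH : autInducedBy S E ≤ H) (hTI : ¬ autInducedBy S E ≤ Inn E)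
    (hse : ∀ g ∈ Γ, g ∉ H → ∀ x ∈ H, g * x * g⁻¹ ∈ H → (∃ k : ℕ, x ^ p ^ k = 1) → x ∈ Inn E)
    {N : Subgroup (MulAut E)} (hNΓ : N ≤ Γ) (hTN : autInducedBy S E ≤ N)
    (hN : ∀ g ∈ Γ, ∀ x ∈ N, g * x * g⁻¹ ∈ N) : ∃ g ∈ N, g ∉ H := by
  classical
  by_contra hcon
  push Not at hcon
  have := finE h
  have hp : Fact p.Prime := ⟨h.pp⟩
  obtain ⟨R, hR⟩ := exists_sylow h
  have hNn : (N.subgroupOf Γ).Normal := by
    constructor
    intro x hx g
    rw [Subgroup.mem_subgroupOf] at hx ⊢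
    exact hN g g.2 x hx
  have h1 := Sylow.normalizer_sup_eq_top' (N := N.subgroupOf Γ) R (by
    rw [hR]
    intro x hx
    rw [Subgroup.mem_subgroupOf] at hx ⊢
    exact hTN hx)
  apply hHne
  apply le_antisymm hHΓ
  intro g hg
  have h2 : (⟨g, hg⟩ : Γ) ∈ H.subgroupOf Γ := by
    have h3 : Subgroup.normalizer ((R : Subgroup Γ) : Set Γ) ⊔ N.subgroupOf Γ ≤ H.subgroupOf Γ := by
      refine sup_le ?_ ?_
      · intro x hx
        rw [Subgroup.mem_subgroupOf]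
        refine norm_le h hTH hTI hse x.2 fun y hy => ?_
        have h4 := (Subgroup.mem_normalizer_iff.1 hx ⟨y, h.indu hy⟩).1 (by
          rw [hR, Subgroup.mem_subgroupOf]; exact hy)
        rw [hR, Subgroup.mem_subgroupOf] at h4
        exact h4
      · intro x hx
        rw [Subgroup.mem_subgroupOf] at hx ⊢
        exact hcon x hx
    exact h3 (h1 ▸ Subgroup.mem_top _)
  rwa [Subgroup.mem_subgroupOf] at h2

/-- `O_p(N / Inn(E)) = 1` for a normal subgroup `N` of `Γ` containing `Aut_S(E)` -/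
theorem le_inn {N : Subgroup (MulAut E)} (h : Ess S E p Γ) (hNΓ : N ≤ Γ) (hTN : autInducedBy S E ≤ N)
    (hN : ∀ g ∈ Γ, ∀ x ∈ N, g * x * g⁻¹ ∈ N) {K : Subgroup (MulAut E)} (hKN : K ≤ N)
    (hK : ∀ g ∈ N, ∀ x ∈ K, g * x * g⁻¹ ∈ K) (hKp : IsPGroup p K) : K ≤ Inn E := by
  classical
  have := finE h
  have hp : Fact p.Prime := ⟨h.pp⟩
  obtain ⟨H, hHΓ, hHne, hTH, hTI, hse⟩ := h.spe
  obtain ⟨g, hgN, hgH⟩ := exists_not_mem h hHΓ hHne hTH hTI hse hNΓ hTN hN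
  -- `K ≤ T`
  obtain ⟨R, hR⟩ := exists_sylow h
  have hKT : K ≤ autInducedBy S E := by
    have h1 : IsPGroup p (K.subgroupOf Γ) := hKp.comap_subtype
    have h2 : IsPGroup p (K.subgroupOf Γ ⊔ (R : Subgroup Γ) : Subgroup Γ) := by
      refine IsPGroup.to_sup_of_normal_left' h1 R.isPGroup' ?_
      intro x hx
      rw [hR, Subgroup.mem_subgroupOf] at hx
      rw [Subgroup.mem_normalizer_iff]
      intro y
      rw [Subgroup.mem_subgroupOf, Subgroup.mem_subgroupOf]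
      constructor
      · intro hy
        exact hK _ (hTN hx) _ hy
      · intro hy
        have h3 := hK _ (inv_mem (hTN hx)) _ hy
        have e : (x : MulAut E)⁻¹ * ((x * y * x⁻¹ : Γ) : MulAut E) * ((x : MulAut E)⁻¹)⁻¹ = (y : MulAut E) := by
          push_cast
          group
        rwa [e] at h3
    have h3 := R.is_maximal' h2 le_sup_right
    intro k hk
    have h4 : (⟨k, hNΓ (hKN hk)⟩ : Γ) ∈ (R : Subgroup Γ) := by
      have h5 : (⟨k, hNΓ (hKN hk)⟩ : Γ) ∈ (K.subgroupOf Γ ⊔ (R : Subgroup Γ) : Subgroup Γ) :=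
        Subgroup.mem_sup_left (Subgroup.mem_subgroupOf.2 hk)
      rw [h3] at h5
      exact h5
    rw [hR, Subgroup.mem_subgroupOf] at h4
    exact h4
  intro k hk
  obtain ⟨n, hn⟩ := hKp ⟨k, hk⟩
  exact hse g (hNΓ hgN) hgH k (hTH (hKT hk)) (hTH (hKT (hK g hgN k hk))) ⟨n, congrArg Subtype.val hn⟩

/-- `O_p(Γ / Inn(E)) = 1` -/
theorem le_inn_Γ (h : Ess S E p Γ) {K : Subgroup (MulAut E)} (hKΓ : K ≤ Γ)
    (hK : ∀ g ∈ Γ, ∀ x ∈ K, g * x * g⁻¹ ∈ K) (hKp : IsPGroup p K) : K ≤ Inn E :=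
  le_inn h le_rfl h.indu (fun g hg x hx => mul_mem (mul_mem hg hx) (inv_mem hg)) hKΓ hK hKp

/-- elements of `N_S(E)` induce elements of `Aut_S(E)` -/
theorem exists_isC (h : Ess S E p Γ) {x : Ω} (hx : x ∈ normalizerIn S E) :
    ∃ α ∈ autInducedBy S E, IsC x α := by
  obtain ⟨α, hα⟩ := exists_conjAut hx.2
  exact ⟨α, (mem_autInducedBy_iff S E α).2 ⟨x, hx.1, hα⟩, hα⟩

end Cfsg.Agent.H218.Fus
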