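import Cfsg.Agent.H218.Fus.EssLib

/-!
# (PF): `|A : A ∩ E| ≤ |W : C_W(A mod W0)|` and `≤ |[W, A] W0 : W0|` for essential `E`

Main theorems `pf`, `pf_frattini`.
-/

set_option autoImplicit false
set_option linter.unusedVariables false

namespace Cfsg.Agent.H218.Fus

open Cfsg Cfsg.FusionSystem Cfsg.Agent.H756.PU Cfsg.Agent.H802
open Cfsg.Agent.H218.Count Cfsg.Agent.H218.CountQ Cfsg.Agent.H218.Glob

variable {Ω : Type*} [Group Ω] {S E : Subgroup Ω} {p : ℕ} {Γ : Subgroup (MulAut E)}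

section Sec

variable {W0 W : Subgroup Ω}

/-- the restriction of `γ` to the invariant subgroup `W` -/
def res (hW : Inv Γ W) (γ : Γ) : W →* W where
  toFun w := ⟨((γ : MulAut E) ⟨w, hW.1 w.2⟩ : E), hW.2 γ γ.2 ⟨w, hW.1 w.2⟩ w.2⟩
  map_one' := by
    apply Subtype.ext
    have h := congrArg (fun z : E => (z : Ω)) (map_one (γ : MulAut E))
    exact h
  map_mul' x y := by
    apply Subtype.ext
    have h := congrArg (fun z : E => (z : Ω)) (map_mul (γ : MulAut E) ⟨x, hW.1 x.2⟩ ⟨y, hW.1 y.2⟩)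
    exact h

theorem res_coe (hW : Inv Γ W) (γ : Γ) (w : W) : ((res hW γ w : W) : Ω) = ((γ : MulAut E) ⟨w, hW.1 w.2⟩ : E) := rfl

/-- the commutative structure of the section -/
@[reducible] def cgS (hN : (W0.subgroupOf W).Normal) (hc : Com W W W0) : CommGroup (W ⧸ W0.subgroupOf W) :=
  { QuotientGroup.Quotient.group (W0.subgroupOf W) with
    mul_comm := by
      intro a b
      obtain ⟨x, rfl⟩ := QuotientGroup.mk_surjective a
      obtain ⟨y, rfl⟩ := QuotientGroup.mk_surjective b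
      refine QuotientGroup.eq.2 ?_
      rw [Subgroup.mem_subgroupOf]
      have h1 := hc _ (inv_mem y.2) _ (inv_mem x.2)
      have e : (((x * y)⁻¹ * (y * x) : W) : Ω) = (y : Ω)⁻¹ * (x : Ω)⁻¹ * ((y : Ω)⁻¹)⁻¹ * ((x : Ω)⁻¹)⁻¹ := by
        push_cast; group
      rw [e]; exact h1 }

/-- the action on the section -/
@[reducible] def actS (hN : (W0.subgroupOf W).Normal) (hc : Com W W W0) (hW0 : Inv Γ W0) (hW : Inv Γ W) :
    letI := cgS hN hc
    DistribMulAction Γ (Additive (W ⧸ W0.subgroupOf W)) :=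
  letI := cgS hN hc
  { smul := fun γ m => Additive.ofMul (QuotientGroup.map (W0.subgroupOf W) (W0.subgroupOf W) (res hW γ) (by
      intro w hw
      rw [Subgroup.mem_comap, Subgroup.mem_subgroupOf, res_coe]
      rw [Subgroup.mem_subgroupOf] at hw
      exact hW0.2 γ γ.2 _ hw) m.toMul)
    one_smul := by
      intro m
      obtain ⟨w, hw⟩ := QuotientGroup.mk_surjective m.toMul
      obtain rfl : Additive.ofMul (QuotientGroup.mk w) = m := congrArg Additive.ofMul hw
      rfl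
    mul_smul := by
      intro x y m
      obtain ⟨w, hw⟩ := QuotientGroup.mk_surjective m.toMul
      obtain rfl : Additive.ofMul (QuotientGroup.mk w) = m := congrArg Additive.ofMul hw
      rfl
    smul_zero := by
      intro γ
      exact congrArg Additive.ofMul (map_one _)
    smul_add := by
      intro γ x y
      exact congrArg Additive.ofMul (map_mul _ _ _) }

end Sec

theorem normal_sub (h : Ess S E p Γ) {W0 W : Subgroup Ω} (hW0 : Inv Γ W0) (hW : W ≤ E) : (W0.subgroupOf W).Normal := by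
  constructor
  intro x hx g
  rw [Subgroup.mem_subgroupOf] at hx ⊢
  exact hW0.2 (MulAut.conj ⟨g, hW g.2⟩) (inn_le_Γ h ⟨_, rfl⟩) ⟨x, hW x.2⟩ hx

/-- conjugation as a homomorphism from `A ≤ N_S(E)` to `Γ` -/
def cjA (h : Ess S E p Γ) {A : Subgroup Ω} (hA : A ≤ normalizerIn S E) : A →* Γ :=
  ((Subgroup.normalizerMonoidHom E).comp (Subgroup.inclusion (hA.trans inf_le_right))).codRestrict Γ
    (fun a => h.indu ((mem_autInducedBy_iff S E _).2 ⟨a, (hA a.2).1, fun x => rfl⟩))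

theorem cjA_apply (h : Ess S E p Γ) {A : Subgroup Ω} (hA : A ≤ normalizerIn S E) (a : A) (e : E) :
    (((cjA h hA a : Γ) : MulAut E) e : Ω) = a * e * (a : Ω)⁻¹ := rfl

theorem cjA_mem_T (h : Ess S E p Γ) {A : Subgroup Ω} (hA : A ≤ normalizerIn S E) (a : A) :
    ((cjA h hA a : Γ) : MulAut E) ∈ autInducedBy S E :=
  (mem_autInducedBy_iff S E _).2 ⟨a, (hA a.2).1, fun x => rfl⟩

theorem cjA_inn (h : Ess S E p Γ) {A : Subgroup Ω} (hA : A ≤ normalizerIn S E) (a : A) :
    ((cjA h hA a : Γ) : MulAut E) ∈ Inn E ↔ (a : Ω) ∈ E := by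
  constructor
  · intro h1
    exact mem_of_inn h (hA a.2).1 (fun e => cjA_apply h hA a e) h1
  · intro h1
    refine ⟨⟨a, h1⟩, ?_⟩
    ext e
    rfl

theorem isPGroup_zpowers {G : Type*} [Group G] {p : ℕ} {q : G} (hq : ∃ k, q ^ p ^ k = 1) :
    IsPGroup p (Subgroup.zpowers q) := by
  obtain ⟨k, hk⟩ := hq
  rintro ⟨z, n, rfl⟩
  refine ⟨k, Subtype.ext ?_⟩
  show (q ^ n) ^ p ^ k = 1
  rw [← zpow_natCast, ← zpow_mul, mul_comm, zpow_mul, zpow_natCast, hk, one_zpow]

/-- the index of the fixed points in the section is at most `|W : C_W(A mod W0)|` -/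
theorem idx_le {Ω : Type*} [Group Ω] {W0 W K : Subgroup Ω} [Finite W] (hN : (W0.subgroupOf W).Normal)
    (F : Subgroup (W ⧸ W0.subgroupOf W)) (hF : ∀ w : W, (w : Ω) ∈ K → (QuotientGroup.mk w : W ⧸ W0.subgroupOf W) ∈ F) :
    F.index ≤ K.relIndex W := by
  have h1 : (F.comap (QuotientGroup.mk' (W0.subgroupOf W))).index = F.index :=
    Subgroup.index_comap_of_surjective F (QuotientGroup.mk'_surjective _)
  rw [← h1]
  apply Subgroup.index_antitone
  intro w hw
  rw [Subgroup.mem_comap]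
  exact hF w (Subgroup.mem_subgroupOf.1 hw)

theorem card_le {Ω : Type*} [Group Ω] {W0 W K : Subgroup Ω} [Finite W] (hN : (W0.subgroupOf W).Normal)
    (hKW : K ≤ W) (F : Subgroup (W ⧸ W0.subgroupOf W))
    (hF : F ≤ (K.subgroupOf W).map (QuotientGroup.mk' (W0.subgroupOf W))) : Nat.card F ≤ W0.relIndex K := by
  have h1 := Subgroup.relIndex_ker (K := K.subgroupOf W) (QuotientGroup.mk' (W0.subgroupOf W))
  rw [QuotientGroup.ker_mk', Subgroup.relIndex_subgroupOf hKW] at h1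
  rw [h1]
  exact Subgroup.card_le_of_le hF

/-- **(PF)** -/
theorem pf (h : Ess S E p Γ) {W0 W A : Subgroup Ω} (hW0 : Inv Γ W0) (hW : Inv Γ W) (hle : W0 ≤ W)
    (hEW : Com E W W0) (hWp : ∀ w ∈ W, w ^ p ∈ W0)
    (hf : ∀ x ∈ normalizerIn S E, (∀ w ∈ W, x * w * x⁻¹ * w⁻¹ ∈ W0) → x ∈ E)
    (hA : A ≤ normalizerIn S E) (hAc : ∀ a ∈ A, ∀ b ∈ A, a * b * a⁻¹ * b⁻¹ ∈ E) (hAp : ∀ a ∈ A, a ^ p ∈ E) :
    E.relIndex A ≤ (cmod A W W0).relIndex W ∧ E.relIndex A ≤ W0.relIndex (comG A W ⊔ W0) := by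
  classical
  have hp : Fact p.Prime := ⟨h.pp⟩
  have hfE := finE h
  have hfW : Finite W := Finite.of_injective (Subgroup.inclusion hW.1) (Subgroup.inclusion_injective _)
  have hN := normal_sub h hW0 hW.1
  have hc : Com W W W0 := fun a ha m hm => hEW a (hW.1 ha) m hm
  let := cgS hN hc
  let := actS hN hc hW0 hW
  obtain ⟨H, hHΓ, hHne, hTH, hTI, hse⟩ := h.spe
  have hI : ((Inn E).subgroupOf Γ).Normal := inferInstance
  have hsm : ∀ (γ : Γ) (w : W), γ • (Additive.ofMul (QuotientGroup.mk w) : Additive (W ⧸ W0.subgroupOf W)) =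
    Additive.ofMul (QuotientGroup.mk (res hW γ w)) := fun γ w => rfl
  have hsub : ∀ (γ : Γ) (w : W), γ • (Additive.ofMul (QuotientGroup.mk w) : Additive (W ⧸ W0.subgroupOf W)) -
    Additive.ofMul (QuotientGroup.mk w) = Additive.ofMul (QuotientGroup.mk (res hW γ w * w⁻¹)) := by
    intro γ w
    rw [sub_eq_add_neg]; rfl
  have hsmi : ∀ (γ : Γ) (w : W), γ • (Additive.ofMul (QuotientGroup.mk w) : Additive (W ⧸ W0.subgroupOf W)) =
      Additive.ofMul (QuotientGroup.mk w) ↔ ((res hW γ w : W) : Ω) * (w : Ω)⁻¹ ∈ W0 := by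
    intro γ w
    rw [hsm, Additive.ofMul.apply_eq_iff_eq, QuotientGroup.eq_iff_div_mem, Subgroup.mem_subgroupOf, div_eq_mul_inv]
    rfl
  have hSEm : SEm p ((Inn E).subgroupOf Γ) (H.subgroupOf Γ) := by
    refine ⟨fun x hx => ?_, ?_, ?_⟩
    · rw [Subgroup.mem_subgroupOf] at hx ⊢
      exact hTH (inn_le_T h hx)
    · by_contra hcon
      push Not at hcon
      apply hHne
      apply le_antisymm hHΓ
      intro g hg
      have := hcon ⟨g, hg⟩
      rwa [Subgroup.mem_subgroupOf] at this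
    · rintro q hq hqI ⟨k, hk⟩ g hg hmem
      rw [Subgroup.mem_subgroupOf] at hq hqI hg hmem
      exact hqI (hse g g.2 hg q hq hmem ⟨k, congrArg Subtype.val hk⟩)
  have hmain := mod_main (G := Γ) (M := Additive (W ⧸ W0.subgroupOf W)) (p := p) (I := (Inn E).subgroupOf Γ)
    (X := H.subgroupOf Γ) (A := (cjA h hA).range) (by
      intro m
      obtain ⟨w, hw⟩ := QuotientGroup.mk_surjective m.toMul
      obtain rfl : Additive.ofMul (QuotientGroup.mk w) = m := congrArg Additive.ofMul hw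
      rw [← ofMul_pow, ← QuotientGroup.mk_pow]
      refine congrArg Additive.ofMul ((QuotientGroup.eq_one_iff _).2 ?_)
      rw [Subgroup.mem_subgroupOf]
      exact hWp w w.2) hSEm (by
      intro γ hγ m
      obtain ⟨w, hw⟩ := QuotientGroup.mk_surjective m.toMul
      obtain rfl : Additive.ofMul (QuotientGroup.mk w) = m := congrArg Additive.ofMul hw
      rw [hsmi]
      rw [Subgroup.mem_subgroupOf] at hγ
      obtain ⟨e, he⟩ := hγ
      rw [res_coe, ← he]
      exact hEW e e.2 w w.2) (by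
      rintro γ hγ ⟨k, hk⟩
      rw [Subgroup.mem_subgroupOf]
      have hzp : IsPGroup p (Subgroup.zpowers (γ : MulAut E)) := by
        apply isPGroup_zpowers
        exact ⟨k, congrArg Subtype.val hk⟩
      obtain ⟨g, hg, hgx⟩ := h.syl _ ((Subgroup.zpowers_le).2 γ.2) hzp
      have h1 := hgx _ (Subgroup.mem_zpowers _)
      obtain ⟨x, hx, hxc⟩ := (mem_autInducedBy_iff S E _).1 h1
      have hxE : x ∈ E := by
        refine hf x ⟨hx, mem_normalizer_of_aut hxc⟩ fun w hw => ?_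
        have h2 := hγ ((⟨g, hg⟩ : Γ)⁻¹ • Additive.ofMul (QuotientGroup.mk ⟨w, hw⟩))
        rw [← mul_smul] at h2
        have h3 : ((⟨g, hg⟩ : Γ) * γ * (⟨g, hg⟩ : Γ)⁻¹) •
            (Additive.ofMul (QuotientGroup.mk ⟨w, hw⟩) : Additive (W ⧸ W0.subgroupOf W)) =
            Additive.ofMul (QuotientGroup.mk ⟨w, hw⟩) := by
          rw [mul_assoc, mul_smul, h2, smul_inv_smul]
        rw [hsmi, res_coe] at h3
        have h4 := hxc ⟨w, hW.1 hw⟩
        have h5 : (((⟨g, hg⟩ : Γ) * γ * (⟨g, hg⟩ : Γ)⁻¹ : Γ) : MulAut E) = g * (γ : MulAut E) * g⁻¹ := rfl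
        rw [h5, h4] at h3
        exact h3
      have h6 : g * (γ : MulAut E) * g⁻¹ ∈ Inn E := by
        refine ⟨⟨x, hxE⟩, ?_⟩
        ext e
        exact (hxc e).symm
      have h7 := (innNormal E).conj_mem _ h6 g⁻¹
      have e : g⁻¹ * (g * (γ : MulAut E) * g⁻¹) * g⁻¹⁻¹ = γ := by group
      rwa [e] at h7) (by
      rintro _ ⟨a, rfl⟩
      rw [Subgroup.mem_subgroupOf]
      exact hTH (cjA_mem_T h hA a)) (by
      rintro _ ⟨a, rfl⟩ _ ⟨b, rfl⟩
      rw [← map_inv, ← map_inv, ← map_mul, ← map_mul, ← map_mul, Subgroup.mem_subgroupOf, cjA_inn]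
      exact hAc a a.2 b b.2) (by
      rintro _ ⟨a, rfl⟩
      rw [← map_pow, Subgroup.mem_subgroupOf, cjA_inn]
      exact hAp a a.2)
  have hidx : ((Inn E).subgroupOf Γ).relIndex (cjA h hA).range = E.relIndex A := by
    rw [← Subgroup.index_comap]
    unfold Subgroup.relIndex
    congr 1
    ext a
    rw [Subgroup.mem_comap, Subgroup.mem_subgroupOf, Subgroup.mem_subgroupOf, cjA_inn]
  rw [hidx] at hmain
  refine ⟨hmain.1.trans ?_, hmain.2.trans ?_⟩
  · let F : Subgroup (W ⧸ W0.subgroupOf W) :=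
      Subgroup.toAddSubgroup.symm (fx (Additive (W ⧸ W0.subgroupOf W)) (cjA h hA).range)
    have h1 : (fx (Additive (W ⧸ W0.subgroupOf W)) (cjA h hA).range).index = F.index := rfl
    rw [h1]
    refine idx_le hN F ?_
    have h2 : cmod A W W0 ≤ (F.comap (QuotientGroup.mk' (W0.subgroupOf W))).map W.subtype := by
      unfold cmod
      rw [Subgroup.closure_le]
      rintro m ⟨hm, hma⟩
      refine ⟨⟨m, hm⟩, ?_, rfl⟩
      rintro _ ⟨a, rfl⟩
      show (cjA h hA a) • (Additive.ofMul (QuotientGroup.mk ⟨m, hm⟩) : Additive (W ⧸ W0.subgroupOf W)) =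
        Additive.ofMul (QuotientGroup.mk ⟨m, hm⟩)
      rw [hsmi]
      exact hma a a.2
    intro w hw
    obtain ⟨w', hw', hww⟩ := h2 hw
    obtain rfl : w' = w := Subtype.ext hww
    exact hw'
  · let F : Subgroup (W ⧸ W0.subgroupOf W) :=
      Subgroup.toAddSubgroup.symm (cm (Additive (W ⧸ W0.subgroupOf W)) (cjA h hA).range)
    have h1 : Nat.card (cm (Additive (W ⧸ W0.subgroupOf W)) (cjA h hA).range) = Nat.card F := rfl
    rw [h1]
    have hCW : comG A W ≤ W := by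
      unfold comG
      rw [Subgroup.closure_le]
      rintro _ ⟨a, ha, m, hm, rfl⟩
      have h2 := (res hW (cjA h hA ⟨a, ha⟩) ⟨m, hm⟩).2
      rw [res_coe] at h2
      exact mul_mem h2 (inv_mem hm)
    refine card_le hN (sup_le hCW hle) F ?_
    have h2 : cm (Additive (W ⧸ W0.subgroupOf W)) (cjA h hA).range ≤ Subgroup.toAddSubgroup
        (((comG A W ⊔ W0).subgroupOf W).map (QuotientGroup.mk' (W0.subgroupOf W))) := by
      unfold cm
      rw [AddSubgroup.closure_le]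
      rintro _ ⟨_, ⟨a, rfl⟩, u, rfl⟩
      obtain ⟨w, hw⟩ := QuotientGroup.mk_surjective u.toMul
      obtain rfl : Additive.ofMul (QuotientGroup.mk w) = u := congrArg Additive.ofMul hw
      rw [hsub]
      refine ⟨res hW (cjA h hA a) w * w⁻¹, ?_, rfl⟩
      rw [SetLike.mem_coe, Subgroup.mem_subgroupOf]
      exact Subgroup.mem_sup_left (Subgroup.subset_closure ⟨a, a.2, w, w.2, rfl⟩)
    exact h2

end Cfsg.Agent.H218.Fus
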