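import Cfsg.Agent.H218.Fus.PF
import Cfsg.Agent.Schreier.Tools2
import Cfsg.Agent.S0012
import Cfsg.Prelude.Def_Amalgam

/-!
# (PF) for the Frattini quotient, the chain lemma (CH), the section lemma (TR)

Main theorems `pf_frattini`, `ch`, `tr`.
-/

set_option autoImplicit false
set_option linter.unusedVariables false

namespace Cfsg.Agent.H218.Fus

open Cfsg Cfsg.FusionSystem Cfsg.Agent.H756.PU Cfsg.Agent.H802

variable {Ω : Type*} [Group Ω] {S E : Subgroup Ω} {p : ℕ} {Γ : Subgroup (MulAut E)}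

theorem isPGroup_E (h : Ess S E p Γ) : IsPGroup p E := h.pgr.to_le h.E_le

/-- `Φ(E)` in the ambient group -/
abbrev phi (E : Subgroup Ω) : Subgroup Ω := (frattini E).map E.subtype

theorem mem_phi {E : Subgroup Ω} {e : E} : (e : Ω) ∈ phi E ↔ e ∈ frattini E := by
  constructor
  · rintro ⟨e', he', h⟩
    obtain rfl : e' = e := Subtype.ext h
    exact he'
  · intro h
    exact ⟨e, h, rfl⟩

theorem phi_le (E : Subgroup Ω) : phi E ≤ E := Subgroup.map_subtype_le _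

theorem inv_phi (Γ : Subgroup (MulAut E)) : Inv Γ (phi E) := by
  refine ⟨phi_le E, fun γ _ e he => ?_⟩
  rw [mem_phi] at he ⊢
  have h1 : (frattini E).map γ.toMonoidHom = frattini E :=
    Subgroup.characteristic_iff_map_eq.1 inferInstance γ
  rw [← h1]
  exact ⟨e, he, rfl⟩

theorem inv_E (Γ : Subgroup (MulAut E)) : Inv Γ E := ⟨le_rfl, fun γ _ e _ => (γ e).2⟩

theorem com_E (h : Ess S E p Γ) : Com E E (phi E) := by
  have := finE h
  have hp : Fact p.Prime := ⟨h.pp⟩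
  intro a ha b hb
  have h1 := (Cfsg.Agent.S0012.result (G := E) p (isPGroup_E h)).1
    (Subgroup.commutator_mem_commutator (Subgroup.mem_top ⟨a, ha⟩) (Subgroup.mem_top ⟨b, hb⟩))
  exact ⟨_, h1, rfl⟩

theorem pow_E (h : Ess S E p Γ) : ∀ w ∈ E, w ^ p ∈ phi E := by
  have := finE h
  have hp : Fact p.Prime := ⟨h.pp⟩
  intro a ha
  exact ⟨_, (Cfsg.Agent.S0012.result (G := E) p (isPGroup_E h)).2 ⟨a, ha⟩, rfl⟩

/-- the elements of `N` acting trivially on the section `W/W0` -/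
def trv (N : Subgroup (MulAut E)) {W W0 : Subgroup Ω} (hW : Inv N W) (hW0 : Inv N W0) : Subgroup (MulAut E) where
  carrier := {γ | γ ∈ N ∧ ∀ e : E, (e : Ω) ∈ W → ((γ e : E) : Ω) * (e : Ω)⁻¹ ∈ W0}
  one_mem' := ⟨one_mem _, fun e _ => by
    rw [MulAut.one_apply, mul_inv_cancel]; exact one_mem _⟩
  mul_mem' := by
    rintro a b ⟨ha, ha'⟩ ⟨hb, hb'⟩
    refine ⟨mul_mem ha hb, fun e he => ?_⟩
    have h1 := mul_mem (ha' (b e) (hW.2 b hb e he)) (hb' e he)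
    rw [MulAut.mul_apply]
    have e1 : ((a (b e) : E) : Ω) * ((b e : E) : Ω)⁻¹ * (((b e : E) : Ω) * (e : Ω)⁻¹) =
      ((a (b e) : E) : Ω) * (e : Ω)⁻¹ := by group
    rwa [e1] at h1
  inv_mem' := by
    rintro a ⟨ha, ha'⟩
    refine ⟨inv_mem ha, fun e he => ?_⟩
    have h1 := inv_mem (ha' (a⁻¹ e) (hW.2 _ (inv_mem ha) e he))
    have e1 : a (a⁻¹ e) = e := a.apply_symm_apply e
    rw [e1, mul_inv_rev, inv_inv] at h1
    exact h1

theorem mem_trv {N : Subgroup (MulAut E)} {W W0 : Subgroup Ω} {hW : Inv N W} {hW0 : Inv N W0} {γ : MulAut E} :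
    γ ∈ trv N hW hW0 ↔ γ ∈ N ∧ ∀ e : E, (e : Ω) ∈ W → ((γ e : E) : Ω) * (e : Ω)⁻¹ ∈ W0 := Iff.rfl

theorem trv_conj {N : Subgroup (MulAut E)} {W W0 : Subgroup Ω} (hW : Inv N W) (hW0 : Inv N W0) {g γ : MulAut E}
    (hg : g ∈ N) (hγ : γ ∈ trv N hW hW0) : g * γ * g⁻¹ ∈ trv N hW hW0 := by
  refine ⟨mul_mem (mul_mem hg hγ.1) (inv_mem hg), fun e he => ?_⟩
  have h1 := hγ.2 (g⁻¹ e) (hW.2 _ (inv_mem hg) e he)
  have h2 := hW0.2 g hg (γ (g⁻¹ e) * (g⁻¹ e)⁻¹) h1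
  rw [map_mul, map_inv] at h2
  have e1 : g (g⁻¹ e) = e := g.apply_symm_apply e
  rw [e1] at h2
  exact h2

/-- the automorphisms trivial on the Frattini quotient form a `p`-group -/
theorem isPGroup_trv_phi (h : Ess S E p Γ) (N : Subgroup (MulAut E)) : IsPGroup p (trv N (inv_E N) (inv_phi N)) := by
  have := finE h
  have hp : Fact p.Prime := ⟨h.pp⟩
  refine Cfsg.Agent.Schreier.Tools2.isPGroup_of_trivial_mod_frattini (isPGroup_E h) _ fun φ hφ t => ?_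
  have h1 := hφ.2 t t.2
  have h2 : ((φ t * t⁻¹ : E) : Ω) ∈ phi E := h1
  exact mem_phi.1 h2

theorem phi_faithful (h : Ess S E p Γ) : ∀ x ∈ normalizerIn S E, (∀ w ∈ E, x * w * x⁻¹ * w⁻¹ ∈ phi E) → x ∈ E := by
  intro x hx hw
  obtain ⟨α, hα, hαx⟩ := exists_isC h hx
  refine mem_of_inn h hx.1 hαx ?_
  refine le_inn_Γ h (K := trv Γ (inv_E Γ) (inv_phi Γ)) (fun γ hγ => hγ.1)
    (fun g hg γ hγ => trv_conj _ _ hg hγ) (isPGroup_trv_phi h Γ) ?_
  refine ⟨h.indu hα, fun e he => ?_⟩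
  rw [hαx e]
  exact hw e e.2

/-- **(PF) for the Frattini quotient** -/
theorem pf_frattini (h : Ess S E p Γ) {A : Subgroup Ω} (hA : A ≤ normalizerIn S E)
    (hAc : ∀ a ∈ A, ∀ b ∈ A, a * b * a⁻¹ * b⁻¹ ∈ E) (hAp : ∀ a ∈ A, a ^ p ∈ E) :
    E.relIndex A ≤ (cmod A E (phi E)).relIndex E ∧ E.relIndex A ≤ (phi E).relIndex (comG A E ⊔ phi E) :=
  pf h (inv_phi Γ) (inv_E Γ) (phi_le E) (com_E h) (pow_E h) (phi_faithful h) hA hAc hAp

/-! ### O^{p'}(Γ) -/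

theorem pec_le (p : ℕ) (Γ : Subgroup (MulAut E)) : pElementClosure p Γ ≤ Γ :=
  (Subgroup.closure_le _).2 fun _ hx => hx.1

theorem mem_pec {p : ℕ} (hp : p.Prime) {Γ : Subgroup (MulAut E)} {γ : MulAut E} (hγ : γ ∈ Γ)
    (hk : ∃ k, γ ^ p ^ k = 1) : γ ∈ pElementClosure p Γ := by
  obtain ⟨k, hk⟩ := hk
  obtain ⟨i, -, hi⟩ := (Nat.dvd_prime_pow hp).1 (orderOf_dvd_of_pow_eq_one hk)
  exact Subgroup.subset_closure ⟨hγ, i, hi⟩

theorem T_le_pec (h : Ess S E p Γ) : autInducedBy S E ≤ pElementClosure p Γ := by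
  intro γ hγ
  obtain ⟨k, hk⟩ := isPGroup_T h ⟨γ, hγ⟩
  exact mem_pec h.pp (h.indu hγ) ⟨k, congrArg Subtype.val hk⟩

theorem pec_conj (p : ℕ) (Γ : Subgroup (MulAut E)) {g x : MulAut E} (hg : g ∈ Γ) (hx : x ∈ pElementClosure p Γ) :
    g * x * g⁻¹ ∈ pElementClosure p Γ := by
  have h1 : pElementClosure p Γ ≤ (pElementClosure p Γ).comap (MulAut.conj g).toMonoidHom := by
    unfold pElementClosure
    rw [Subgroup.closure_le]
    rintro y ⟨hy, k, hk⟩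
    refine Subgroup.subset_closure ⟨mul_mem (mul_mem hg hy) (inv_mem hg), k, ?_⟩
    rw [← hk]
    exact orderOf_injective (MulAut.conj g).toMonoidHom (MulAut.conj g).injective y
  exact h1 hx

/-- a normal subgroup of `Γ` containing `Aut_S(E)` contains `O^{p'}(Γ)` -/
theorem pec_le_of (h : Ess S E p Γ) {K : Subgroup (MulAut E)} (hT : autInducedBy S E ≤ K)
    (hK : ∀ g ∈ Γ, ∀ x ∈ K, g * x * g⁻¹ ∈ K) : pElementClosure p Γ ≤ K := by
  unfold pElementClosure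
  rw [Subgroup.closure_le]
  rintro γ ⟨hγ, k, hk⟩
  have hzp : IsPGroup p (Subgroup.zpowers γ) := by
    apply isPGroup_zpowers
    exact ⟨k, by rw [← hk, pow_orderOf_eq_one]⟩
  obtain ⟨g, hg, hgx⟩ := h.syl _ ((Subgroup.zpowers_le).2 hγ) hzp
  have h1 := hK g⁻¹ (inv_mem hg) _ (hT (hgx _ (Subgroup.mem_zpowers _)))
  have e : g⁻¹ * (g * γ * g⁻¹) * g⁻¹⁻¹ = γ := by group
  rwa [e] at h1

/-- **(TR)** if `N_S(E)` acts trivially on an invariant section, then so does `O^{p'}(Γ)` -/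
theorem tr (h : Ess S E p Γ) {W0 W : Subgroup Ω} (hW0 : Inv Γ W0) (hW : Inv Γ W)
    (hT : Com (normalizerIn S E) W W0) : ∀ γ ∈ pElementClosure p Γ, ∀ e : E, (e : Ω) ∈ W →
      ((γ e : E) : Ω) * (e : Ω)⁻¹ ∈ W0 := by
  have h1 : pElementClosure p Γ ≤ trv Γ hW hW0 := by
    refine pec_le_of h ?_ fun g hg x hx => trv_conj _ _ hg hx
    intro γ hγ
    obtain ⟨x, hx, hxc⟩ := (mem_autInducedBy_iff S E _).1 hγ
    refine ⟨h.indu hγ, fun e he => ?_⟩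
    rw [hxc e]
    exact hT x ⟨hx, mem_normalizer_of_aut hxc⟩ e he
  exact fun γ hγ => (h1 hγ).2

/-! ### The chain lemma -/

/-- the stabilizer of a chain -/
def stab (N : Subgroup (MulAut E)) (m : ℕ) (W : ℕ → Subgroup Ω) (hW : ∀ i ≤ m, Inv N (W i)) :
    Subgroup (MulAut E) where
  carrier := {γ | γ ∈ N ∧ ∀ i < m, ∀ e : E, (e : Ω) ∈ W i → ((γ e : E) : Ω) * (e : Ω)⁻¹ ∈ W (i + 1)}
  one_mem' := ⟨one_mem _, fun i hi => (one_mem (trv N (hW i hi.le) (hW (i + 1) hi))).2⟩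
  mul_mem' := by
    rintro a b ⟨ha, ha'⟩ ⟨hb, hb'⟩
    refine ⟨mul_mem ha hb, fun i hi => ?_⟩
    have h1 : a ∈ trv N (hW i hi.le) (hW (i + 1) hi) := ⟨ha, ha' i hi⟩
    have h2 : b ∈ trv N (hW i hi.le) (hW (i + 1) hi) := ⟨hb, hb' i hi⟩
    exact (mul_mem h1 h2).2
  inv_mem' := by
    rintro a ⟨ha, ha'⟩
    refine ⟨inv_mem ha, fun i hi => ?_⟩
    have h1 : a ∈ trv N (hW i hi.le) (hW (i + 1) hi) := ⟨ha, ha' i hi⟩
    exact (inv_mem h1).2

theorem stab_conj {N : Subgroup (MulAut E)} {m : ℕ} {W : ℕ → Subgroup Ω} (hW : ∀ i ≤ m, Inv N (W i))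
    {g γ : MulAut E} (hg : g ∈ N) (hγ : γ ∈ stab N m W hW) : g * γ * g⁻¹ ∈ stab N m W hW := by
  refine ⟨mul_mem (mul_mem hg hγ.1) (inv_mem hg), fun i hi => ?_⟩
  have h1 : γ ∈ trv N (hW i hi.le) (hW (i + 1) hi) := ⟨hγ.1, hγ.2 i hi⟩
  exact (trv_conj _ _ hg h1).2

/-- the stabilizer of a chain from `E` to a subgroup of `Φ(E)` is a `p`-group -/
theorem isPGroup_stab (h : Ess S E p Γ) {N : Subgroup (MulAut E)} (hIN : Inn E ≤ N) {m : ℕ} {W : ℕ → Subgroup Ω}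
    (hW : ∀ i ≤ m, Inv N (W i)) (h0 : W 0 = E) (hm : W m ≤ phi E) : IsPGroup p (stab N m W hW) := by
  classical
  have hfE := finE h
  have hp : Fact p.Prime := ⟨h.pp⟩
  obtain ⟨n, hn⟩ := IsPGroup.iff_card.1 (isPGroup_E h)
  have key : ∀ γ ∈ stab N m W hW, ∀ i ≤ m, ∀ e : E, (((γ ^ (p ^ n) ^ i) e : E) : Ω) * (e : Ω)⁻¹ ∈ W i := by
    intro γ hγ i
    induction i with
    | zero =>
      intro _ e
      rw [h0]
      exact mul_mem ((γ ^ (p ^ n) ^ 0) e).2 (inv_mem e.2)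
    | succ i ih =>
      intro hi e
      have hi' : i < m := hi
      set δ := γ ^ (p ^ n) ^ i with hδ
      have hδm : δ ∈ stab N m W hW := pow_mem hγ _
      have hNn : ((W (i + 1)).subgroupOf E).Normal := by
        constructor
        intro x hx g
        rw [Subgroup.mem_subgroupOf] at hx ⊢
        exact (hW (i + 1) hi).2 (MulAut.conj g) (hIN ⟨_, rfl⟩) x hx
      set w : E := δ e * e⁻¹ with hw
      have hwW : (w : Ω) ∈ W i := ih hi'.le e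
      have hpow : ∀ k : ℕ, (QuotientGroup.mk ((δ ^ k) e) : E ⧸ (W (i + 1)).subgroupOf E) =
          (QuotientGroup.mk w) ^ k * QuotientGroup.mk e := by
        intro k
        induction k with
        | zero => simp
        | succ k ihk =>
          have e1 : (δ ^ (k + 1)) e = (δ ^ k) w * (δ ^ k) e := by
            rw [pow_succ, MulAut.mul_apply, ← map_mul, hw, inv_mul_cancel_right]
          have e2 : (QuotientGroup.mk ((δ ^ k) w) : E ⧸ (W (i + 1)).subgroupOf E) = QuotientGroup.mk w := by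
            rw [QuotientGroup.eq_iff_div_mem, Subgroup.mem_subgroupOf, div_eq_mul_inv]
            exact (pow_mem hδm k).2 i hi' w hwW
          rw [e1, QuotientGroup.mk_mul, ihk, e2, pow_succ', mul_assoc]
      have h2 := hpow (p ^ n)
      have h3 : (QuotientGroup.mk w : E ⧸ (W (i + 1)).subgroupOf E) ^ p ^ n = 1 := by
        rw [← QuotientGroup.mk_pow, ← hn, pow_card_eq_one']; rfl
      rw [h3, one_mul, QuotientGroup.eq_iff_div_mem, Subgroup.mem_subgroupOf, div_eq_mul_inv] at h2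
      have e3 : δ ^ p ^ n = γ ^ (p ^ n) ^ (i + 1) := by
        rw [hδ, ← pow_mul, ← pow_succ]
      rw [e3] at h2
      exact h2
  rintro ⟨γ, hγ⟩
  have h1 := key γ hγ m le_rfl
  have h2 : γ ^ (p ^ n) ^ m ∈ trv N (inv_E N) (inv_phi N) := ⟨pow_mem hγ.1 _, fun e _ => hm (h1 e)⟩
  obtain ⟨k, hk⟩ := isPGroup_trv_phi h N ⟨_, h2⟩
  refine ⟨n * m + k, Subtype.ext ?_⟩
  have h3 : (γ ^ (p ^ n) ^ m) ^ p ^ k = 1 := congrArg Subtype.val hk
  show γ ^ p ^ (n * m + k) = 1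
  rw [← h3, ← pow_mul, pow_add, pow_mul p n m]

/-- **(CH)**, general: chain of subgroups invariant under a normal subgroup `N ≥ Aut_S(E)` of `Γ` -/
theorem ch_gen (h : Ess S E p Γ) {N : Subgroup (MulAut E)} (hNΓ : N ≤ Γ) (hTN : autInducedBy S E ≤ N)
    (hN : ∀ g ∈ Γ, ∀ x ∈ N, g * x * g⁻¹ ∈ N) {m : ℕ} {W : ℕ → Subgroup Ω} (h0 : W 0 = E)
    (hW : ∀ i ≤ m, Inv N (W i)) (hm : W m ≤ phi E) {A : Subgroup Ω} (hA : A ≤ normalizerIn S E)
    (hAW : ∀ i < m, Com A (W i) (W (i + 1))) : A ≤ E := by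
  intro a ha
  obtain ⟨α, hα, hαa⟩ := exists_isC h (hA ha)
  refine mem_of_inn h (hA ha).1 hαa ?_
  refine le_inn h hNΓ hTN hN (K := stab N m W hW) (fun γ hγ => hγ.1) (fun g hg γ hγ => stab_conj hW hg hγ)
    (isPGroup_stab h ((inn_le_T h).trans hTN) hW h0 hm) ?_
  refine ⟨hTN hα, fun i hi e he => ?_⟩
  rw [hαa e]
  exact hAW i hi a ha e he

/-- **(CH)** chain lemma: `E = W 0 ≥ W 1 ≥ … ≥ W m ≤ Φ(E)` invariant under `O^{p'}(Γ)`, `[A, W i] ≤ W (i+1)` -/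
theorem ch (h : Ess S E p Γ) {m : ℕ} {W : ℕ → Subgroup Ω} (h0 : W 0 = E)
    (hW : ∀ i ≤ m, Inv (pElementClosure p Γ) (W i)) (hm : W m ≤ phi E) {A : Subgroup Ω}
    (hA : A ≤ normalizerIn S E) (hAW : ∀ i < m, Com A (W i) (W (i + 1))) : A ≤ E :=
  ch_gen h (pec_le p Γ) (T_le_pec h) (fun g hg x hx => pec_conj p Γ hg hx) h0 hW hm hA hAW

end Cfsg.Agent.H218.Fus
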